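import Cfsg.Agent.HeldU.Frame.Tables

/-!
A frame in a group of shape `2^(1+6).L3(2)`: two dual elementary abelian pieces of the extraspecial
group and their common normalizer `P`, a double cover of `L3(2)`.
-/

set_option autoImplicit false
set_option linter.unusedSectionVars false

namespace CfsgLib.HeldC

universe u

variable {C : Type u} [Group C]

/-- `1` or `t`. -/
def tpow (t : C) (b : Bool) : C := if b then t else 1

/-- A frame. -/
structure Frame (C : Type u) [Group C] where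
  /-- The central involution. -/
  t : C
  /-- The first piece. -/
  A : V → C
  /-- The second piece. -/
  B : V → C
  /-- The normalizer of both pieces. -/
  P : Subgroup C
  /-- The matrix of an element of `P`. -/
  φ : C → M
  t_ne : t ≠ 1
  t_sq : t * t = 1
  t_comm : ∀ c, t * c = c * t
  A_add : ∀ u v, A (vadd u v) = A u * A v
  B_add : ∀ u v, B (vadd u v) = B u * B v
  comm : ∀ u v, B v * A u = tpow t (dot u v) * (A u * B v)
  t_mem : t ∈ P
  inj : ∀ e u v, tpow t e * (A u * B v) ∈ P → u = v0 ∧ v = v0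
  surj : ∀ c, ∃ e u v p, p ∈ P ∧ c = tpow t e * (A u * B v) * p
  conjA : ∀ p ∈ P, ∀ u, p * A u = A (mv (φ p) u) * p
  conjB : ∀ p ∈ P, ∀ v, p * B v = B (mv (dual (φ p)) v) * p
  ker : ∀ p ∈ P, φ p = mid → p = 1 ∨ p = t
  det_φ : ∀ p ∈ P, det (φ p) = true
  φ_surj : ∀ g, det g = true → ∃ p ∈ P, φ p = g

theorem mid_mm (h : M) : mm mid h = h := by simp [mm, mv_mid]

namespace Frame

variable (F : Frame C)

/-- The element with given coordinates. -/
def q (z : Z) : C := tpow F.t z.1 * (F.A z.2.1 * F.B z.2.2)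

theorem A_v0 : F.A v0 = 1 := by
  have h := F.A_add v0 v0
  rw [(vadd_v0 v0).1] at h
  exact left_eq_mul.mp h

theorem B_v0 : F.B v0 = 1 := by
  have h := F.B_add v0 v0
  rw [(vadd_v0 v0).1] at h
  exact left_eq_mul.mp h

theorem tpow_comm (b : Bool) (c : C) : tpow F.t b * c = c * tpow F.t b := by
  cases b
  · simp [tpow]
  · simpa [tpow] using F.t_comm c

theorem tpow_xor (a b : Bool) : tpow F.t (a ^^ b) = tpow F.t a * tpow F.t b := by
  cases a <;> cases b <;> simp [tpow, F.t_sq]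

theorem q_z0 : F.q z0 = 1 := by simp [q, z0, F.A_v0, F.B_v0, tpow]

theorem q_zt : F.q zt = F.t := by simp [q, zt, F.A_v0, F.B_v0, tpow]

theorem q_flipz (b : Bool) (z : Z) : F.q (flipz b z) = tpow F.t b * F.q z := by
  obtain ⟨e, u, v⟩ := z
  simp only [q, flipz]
  rw [Bool.xor_comm e b, F.tpow_xor, mul_assoc]

theorem q_mul (x y : Z) : F.q (qm x y) = F.q x * F.q y := by
  obtain ⟨e, u, v⟩ := x
  obtain ⟨f, u', v'⟩ := y
  simp only [q, qm]
  rw [F.A_add, F.B_add, F.tpow_xor, F.tpow_xor]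
  have h : F.A u * F.B v * (F.A u' * F.B v') =
      tpow F.t (dot u' v) * (F.A u * F.A u' * (F.B v * F.B v')) := by
    calc F.A u * F.B v * (F.A u' * F.B v') = F.A u * (F.B v * F.A u') * F.B v' := by group
      _ = F.A u * (tpow F.t (dot u' v) * (F.A u' * F.B v)) * F.B v' := by rw [F.comm]
      _ = F.A u * tpow F.t (dot u' v) * (F.A u' * F.B v * F.B v') := by group
      _ = tpow F.t (dot u' v) * F.A u * (F.A u' * F.B v * F.B v') := by rw [F.tpow_comm _ (F.A u)]
      _ = _ := by group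
  calc tpow F.t e * tpow F.t f * tpow F.t (dot u' v) * (F.A u * F.A u' * (F.B v * F.B v'))
      = tpow F.t e * tpow F.t f * (F.A u * F.B v * (F.A u' * F.B v')) := by rw [h, mul_assoc _ (tpow F.t _)]
    _ = tpow F.t e * (tpow F.t f * (F.A u * F.B v)) * (F.A u' * F.B v') := by group
    _ = tpow F.t e * ((F.A u * F.B v) * tpow F.t f) * (F.A u' * F.B v') := by rw [F.tpow_comm f]
    _ = _ := by group

theorem eq_z0_of_mem {z : Z} (h : F.q z ∈ F.P) : z.2 = (v0, v0) := by
  obtain ⟨e, u, v⟩ := z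
  obtain ⟨h1, h2⟩ := F.inj e u v h
  exact Prod.ext h1 h2

theorem q_eq_one_iff {z : Z} : F.q z = 1 ↔ z = z0 := by
  refine ⟨fun h => ?_, fun h => by rw [h, F.q_z0]⟩
  have h2 := F.eq_z0_of_mem (h ▸ F.P.one_mem)
  obtain ⟨e, w⟩ := z
  simp only at h2
  subst h2
  cases e
  · rfl
  · exact absurd (by rw [← F.q_zt]; exact h) F.t_ne

/-- The inverse in coordinates. -/
theorem exists_qinv (z : Z) : ∃ w, qm w z = z0 :=
  ⟨((z.1 ^^ dot z.2.1 z.2.2), z.2.1, z.2.2), by
    obtain ⟨e, u, v⟩ := z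
    simp [qm, z0, (vadd_v0 _).2.2]
    cases e <;> cases dot u v <;> rfl⟩

theorem q_inj {x y : Z} (h : F.q x = F.q y) : x = y := by
  obtain ⟨w, hw⟩ := exists_qinv y
  have h1 : F.q (qm w x) = 1 := by rw [F.q_mul, h, ← F.q_mul, hw, F.q_z0]
  rw [F.q_eq_one_iff] at h1
  obtain ⟨e, u, v⟩ := x
  obtain ⟨f, u', v'⟩ := y
  obtain ⟨g, a, b⟩ := w
  simp only [qm, z0, Prod.mk.injEq] at h1 hw
  obtain ⟨h1, h2, h3⟩ := h1
  obtain ⟨k1, k2, k3⟩ := hw
  have hu : u = u' := by
    rw [← (vadd_v0 u).2.1, ← (vadd_v0 u').2.1, ← (vadd_v0 a).2.2, vadd_assoc, vadd_assoc, h2, k2]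
  have hv : v = v' := by
    rw [← (vadd_v0 v).2.1, ← (vadd_v0 v').2.1, ← (vadd_v0 b).2.2, vadd_assoc, vadd_assoc, h3, k3]
  subst hu; subst hv
  cases e <;> cases f <;> cases g <;> simp_all

theorem q_mul_inj {x y : Z} {p r : C} (hp : p ∈ F.P) (hr : r ∈ F.P) (h : F.q x * p = F.q y * r) :
    x.2 = y.2 := by
  obtain ⟨w, hw⟩ := exists_qinv y
  have h1 : F.q (qm w x) = r * p⁻¹ := by
    rw [F.q_mul, eq_mul_inv_iff_mul_eq, mul_assoc, h, ← mul_assoc, ← F.q_mul, hw, F.q_z0, one_mul]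
  have h2 := F.eq_z0_of_mem (h1 ▸ F.P.mul_mem hr (F.P.inv_mem hp))
  obtain ⟨e, u, v⟩ := x
  obtain ⟨f, u', v'⟩ := y
  obtain ⟨g, a, b⟩ := w
  simp only [qm, z0, Prod.mk.injEq] at h2 hw
  obtain ⟨h3, h4⟩ := h2
  obtain ⟨-, k2, k3⟩ := hw
  refine Prod.ext ?_ ?_
  · show u = u'
    rw [← (vadd_v0 u).2.1, ← (vadd_v0 u').2.1, ← (vadd_v0 a).2.2, vadd_assoc, vadd_assoc, h3, k2]
  · show v = v'
    rw [← (vadd_v0 v).2.1, ← (vadd_v0 v').2.1, ← (vadd_v0 b).2.2, vadd_assoc, vadd_assoc, h4, k3]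

theorem conj_q {p : C} (hp : p ∈ F.P) (z : Z) : p * F.q z = F.q (qact (F.φ p) z) * p := by
  obtain ⟨e, u, v⟩ := z
  simp only [q, qact]
  rw [← mul_assoc, ← F.tpow_comm e p, mul_assoc, ← mul_assoc p, F.conjA p hp,
    mul_assoc (F.A _) p, F.conjB p hp]
  group

theorem φ_mul {p r : C} (hp : p ∈ F.P) (hr : r ∈ F.P) : F.φ (p * r) = mm (F.φ p) (F.φ r) := by
  have key : ∀ u, mv (F.φ (p * r)) u = mv (F.φ p) (mv (F.φ r) u) := by
    intro u
    have h : F.A (mv (F.φ (p * r)) u) * (p * r) = F.A (mv (F.φ p) (mv (F.φ r) u)) * (p * r) := by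
      rw [← F.conjA _ (F.P.mul_mem hp hr), mul_assoc, F.conjA r hr, ← mul_assoc, F.conjA p hp, mul_assoc]
    have h' : F.q (false, mv (F.φ (p * r)) u, v0) = F.q (false, mv (F.φ p) (mv (F.φ r) u), v0) := by
      simp only [q, F.B_v0, mul_one, tpow, Bool.false_eq_true, if_false, one_mul]
      exact mul_right_cancel h
    exact congrArg (fun z : Z => z.2.1) (F.q_inj h')
  obtain ⟨a, b, c⟩ := mv_unit (F.φ (p * r))
  obtain ⟨a', b', c'⟩ := mv_unit (F.φ r)
  exact Prod.ext (by rw [← a, key, a']; rfl)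
    (Prod.ext (by rw [← b, key, b']; rfl) (by rw [← c, key, c']; rfl))

theorem φ_central {p : C} (hp : p ∈ F.P) (hA : ∀ u, p * F.A u = F.A u * p) : F.φ p = mid := by
  have key : ∀ u, mv (F.φ p) u = u := by
    intro u
    have h := hA u
    rw [F.conjA p hp] at h
    have h' : F.q (false, mv (F.φ p) u, v0) = F.q (false, u, v0) := by
      simp only [q, F.B_v0, mul_one, tpow, Bool.false_eq_true, if_false, one_mul]
      exact mul_right_cancel h
    exact congrArg (fun z : Z => z.2.1) (F.q_inj h')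
  obtain ⟨a, b, c⟩ := mv_unit (F.φ p)
  exact Prod.ext (by rw [← a, key]; rfl) (Prod.ext (by rw [← b, key]; rfl) (by rw [← c, key]; rfl))

theorem φ_one : F.φ 1 = mid := F.φ_central F.P.one_mem fun u => by simp

theorem φ_t : F.φ F.t = mid := F.φ_central F.t_mem fun u => F.t_comm _

theorem eq_or_eq_of_φ {p r : C} (hp : p ∈ F.P) (hr : r ∈ F.P) (h : F.φ p = F.φ r) :
    r = p ∨ r = F.t * p := by
  have hi : F.φ (r * p⁻¹) = mid := by
    have := F.φ_mul hp (F.P.inv_mem hp)
    rw [mul_inv_cancel, F.φ_one] at this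
    rw [F.φ_mul hr (F.P.inv_mem hp), ← h, ← this]
  rcases F.ker _ (F.P.mul_mem hr (F.P.inv_mem hp)) hi with h1 | h1
  · exact Or.inl (mul_inv_eq_one.mp h1)
  · exact Or.inr (mul_inv_eq_iff_eq_mul.mp h1)

theorem surj_q (c : C) : ∃ z p, p ∈ F.P ∧ c = F.q z * p := by
  obtain ⟨e, u, v, p, hp, h⟩ := F.surj c
  exact ⟨(e, u, v), p, hp, h⟩

/-- The product of two elements in coordinates. -/
theorem mul_coord (z w : Z) {p : C} (hp : p ∈ F.P) (r : C) :
    F.q z * p * (F.q w * r) = F.q (qm z (qact (F.φ p) w)) * (p * r) := by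
  rw [F.q_mul, mul_assoc (F.q z) p, ← mul_assoc p, F.conj_q hp]
  group

open Classical in
/-- A lift of a matrix to `P`, with the identity lifted to one. -/
noncomputable def lift (g : M) : C :=
  if g = mid then 1 else if h : det g = true then Classical.choose (F.φ_surj g h) else 1

theorem lift_mid : F.lift mid = 1 := by simp [lift]

theorem lift_mem (g : M) : F.lift g ∈ F.P := by
  unfold lift
  split_ifs with h1 h2
  · exact F.P.one_mem
  · exact (Classical.choose_spec (F.φ_surj g h2)).1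
  · exact F.P.one_mem

theorem φ_lift {g : M} (h : det g = true) : F.φ (F.lift g) = g := by
  by_cases h1 : g = mid
  · subst h1; rw [F.lift_mid, F.φ_one]
  · simp only [lift, h1, if_false, h, dif_pos]
    exact (Classical.choose_spec (F.φ_surj g h)).2

/-- Every element has unique coordinates over the lifts. -/
theorem exists_coord (c : C) : ∃ z g, det g = true ∧ c = F.q z * F.lift g := by
  obtain ⟨z, p, hp, rfl⟩ := F.surj_q c
  have hd := F.det_φ p hp
  rcases F.eq_or_eq_of_φ (F.lift_mem (F.φ p)) hp (by rw [F.φ_lift hd]) with h | h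
  · exact ⟨z, F.φ p, hd, congrArg _ h⟩
  · refine ⟨qm z zt, F.φ p, hd, ?_⟩
    rw [F.q_mul, F.q_zt, mul_assoc, ← h]

theorem coord_inj {z w : Z} {g h : M} (hg : det g = true) (hh : det h = true)
    (e : F.q z * F.lift g = F.q w * F.lift h) : z = w ∧ g = h := by
  have h2 := F.q_mul_inj (F.lift_mem g) (F.lift_mem h) e
  obtain ⟨a, y⟩ := z
  obtain ⟨b, y'⟩ := w
  simp only at h2
  subst h2
  have h3 : F.lift g = F.lift h ∨ F.lift g = F.t * F.lift h := by
    have e' : ∀ (c : Bool) (x : C), F.q (c, y) * x = tpow F.t c * (F.q (false, y) * x) := fun c x => by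
      simp [q, tpow, mul_assoc]
    replace e := (e' _ _).symm.trans (e.trans (e' _ _))
    cases a <;> cases b <;> simp only [tpow, if_true, Bool.false_eq_true, if_false, one_mul] at e
    · exact Or.inl (mul_left_cancel e)
    · rw [← mul_assoc F.t, F.t_comm (F.q _), mul_assoc] at e; exact Or.inr (mul_left_cancel e)
    · rw [← mul_assoc F.t, F.t_comm (F.q _), mul_assoc] at e
      refine Or.inr ?_
      rw [← mul_left_cancel e, ← mul_assoc, F.t_sq, one_mul]
    · exact Or.inl (mul_left_cancel (mul_left_cancel e))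
  have hgh : g = h := by
    rcases h3 with h3 | h3
    · rw [← F.φ_lift hg, h3, F.φ_lift hh]
    · rw [← F.φ_lift hg, h3, F.φ_mul F.t_mem (F.lift_mem h), F.φ_t, F.φ_lift hh]
      exact mid_mm h
  subst hgh
  exact ⟨F.q_inj (mul_right_cancel e), rfl⟩

end Frame

end CfsgLib.HeldC
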