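import Cfsg.Agent.HeldU.Frame.Basic

/-!
Two normal elementary abelian subgroups of order sixteen meeting in the centre give a frame.
-/

set_option autoImplicit false
set_option linter.unusedSectionVars false

namespace CfsgLib.HeldC

universe u

variable {C : Type u} [Group C]

/-- The data from which a frame is built. -/
structure Pieces (t : C) (Q E₁ E₂ : Subgroup C) : Prop where
  t_ne : t ≠ 1
  t_sq : t * t = 1
  t_comm : ∀ c, t * c = c * t
  normal₁ : E₁.Normal
  normal₂ : E₂.Normal
  sq₁ : ∀ x ∈ E₁, x * x = 1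
  sq₂ : ∀ x ∈ E₂, x * x = 1
  card₁ : Nat.card E₁ = 16
  card₂ : Nat.card E₂ = 16
  t_mem₁ : t ∈ E₁
  t_mem₂ : t ∈ E₂
  meet : ∀ x ∈ E₁, x ∈ E₂ → x = 1 ∨ x = t
  join : E₁ ⊔ E₂ = Q
  normalQ : Q.Normal
  index : Q.index = 168
  centre : ∀ x ∈ Q, (∀ y ∈ Q, x * y = y * x) → x = 1 ∨ x = t
  cent : ∀ c, (∀ y ∈ Q, c * y = y * c) → c ∈ Q

theorem tpow_cases (t : C) (b : Bool) : tpow t b = 1 ∨ tpow t b = t := by cases b <;> simp [tpow]

theorem tpow_false (t : C) : tpow t false = 1 := rfl

theorem tpow_xor' {t : C} (h : t * t = 1) (a b : Bool) : tpow t (a ^^ b) = tpow t a * tpow t b := by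
  cases a <;> cases b <;> simp [tpow, h]

theorem tpow_central {t : C} (h : ∀ c, t * c = c * t) (b : Bool) (c : C) :
    tpow t b * c = c * tpow t b := by
  cases b
  · simp [tpow]
  · simpa [tpow] using h c

theorem tpow_inj {t : C} (h : t ≠ 1) {a b : Bool} (e : tpow t a = tpow t b) : a = b := by
  cases a <;> cases b <;> simp_all [tpow]

theorem linear_eq_mv (f : V → V) (hf : ∀ a b, f (vadd a b) = vadd (f a) (f b)) (v : V) :
    f v = mv (f u1, f u2, f u3) v := by
  have h0 : f v0 = v0 := by
    have h := hf v0 v0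
    rw [(vadd_v0 v0).1, (vadd_v0 (f v0)).2.2] at h
    exact h
  obtain ⟨h1, h2, h3⟩ := mv_unit (f u1, f u2, f u3)
  have hz : mv (f u1, f u2, f u3) v0 = v0 := by simp [mv, v0, sel, vadd]
  rcases unit_cases v with h | h | h | h | h | h | h | h <;> subst h <;>
    simp only [hf, h0, mv_vadd, h1, h2, h3, hz]

theorem functional_eq_dot (f : V → Bool) (hf : ∀ a b, f (vadd a b) = (f a ^^ f b)) (v : V) :
    f v = dot v (f u1, f u2, f u3) := by
  have h0 : f v0 = false := by
    have h := hf v0 v0
    rw [(vadd_v0 v0).1, Bool.xor_self] at h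
    exact h
  rcases unit_cases v with h | h | h | h | h | h | h | h <;> subst h <;>
    (try simp only [hf, h0]) <;>
    cases f u1 <;> cases f u2 <;> cases f u3 <;> rfl

theorem vadd_eq_v0 : ∀ a b : V, vadd a b = v0 → a = b := by decide +kernel

theorem dot_vadd : ∀ a b c : V, dot (vadd a b) c = (dot a c ^^ dot b c) ∧
    dot c (vadd a b) = (dot c a ^^ dot c b) := by decide +kernel

theorem dot_comm : ∀ a b : V, dot a b = dot b a := by decide +kernel

theorem dual_mid : dual mid = mid := by decide

/-- A parametrisation of an elementary abelian group of order sixteen around a given involution. -/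
theorem exists_basis {t : C} {E : Subgroup C} (hsq : ∀ x ∈ E, x * x = 1) (hcard : Nat.card E = 16)
    (ht : t ∈ E) (ht1 : t ≠ 1) :
    ∃ A : V → C, (∀ v, A v ∈ E) ∧ (∀ a b, A (vadd a b) = A a * A b) ∧
      (∀ e e' a b, tpow t e * A a = tpow t e' * A b → e = e' ∧ a = b) ∧
      (∀ x ∈ E, ∃ e v, x = tpow t e * A v) := by
  classical
  haveI : Finite E := Nat.finite_of_card_ne_zero (by omega)
  haveI := Fintype.ofFinite E
  have hc : ∀ x y : E, x * y = y * x := fun x y => Subtype.ext (by
    have h1 := hsq _ (mul_mem x.2 y.2)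
    calc (x : C) * y = (x : C) * y * ((x : C) * y * ((x : C) * y))⁻¹ := by rw [h1, inv_one, mul_one]
      _ = (y : C)⁻¹ * (x : C)⁻¹ := by group
      _ = _ := by rw [inv_eq_of_mul_eq_one_right (hsq _ x.2), inv_eq_of_mul_eq_one_right (hsq _ y.2)]; rfl)
  letI : CommGroup E := { (inferInstance : Group E) with mul_comm := hc }
  have hs : ∀ x : E, x * x = 1 := fun x => Subtype.ext (hsq x x.2)
  set τ : E := ⟨t, ht⟩ with hτ
  have pick : ∀ S : Finset E, S.card < 16 → ∃ a, a ∉ S := by
    intro S hS
    by_contra h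
    push Not at h
    have : S = Finset.univ := Finset.eq_univ_iff_forall.2 h
    rw [this, Finset.card_univ, ← Nat.card_eq_fintype_card, hcard] at hS
    omega
  obtain ⟨a, ha⟩ := pick {1, τ} (lt_of_le_of_lt Finset.card_le_two (by norm_num))
  obtain ⟨b, hb⟩ := pick {1, τ, a, τ * a}
    (lt_of_le_of_lt Finset.card_le_four (by norm_num))
  obtain ⟨c, hcm⟩ := pick ({1, τ, a, τ * a} ∪ {b, τ * b, a * b, τ * (a * b)})
    (lt_of_le_of_lt ((Finset.card_union_le _ _).trans (Nat.add_le_add Finset.card_le_four Finset.card_le_four))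
      (by norm_num))
  let P : V → E := fun v => tpow a v.1 * tpow b v.2.1 * tpow c v.2.2
  have hP : ∀ u v, P (vadd u v) = P u * P v := by
    rintro ⟨x, y, z⟩ ⟨x', y', z'⟩
    simp only [P, vadd, tpow_xor' (hs _)]
    ac_rfl
  have hker : ∀ e v, tpow τ e * P v = 1 → e = false ∧ v = v0 := by
    have hinv : ∀ x y : E, x * y = 1 → y = x := fun x y h =>
      (inv_eq_of_mul_eq_one_right h).symm.trans (inv_eq_of_mul_eq_one_right (hs x))
    have hτ1 : τ ≠ 1 := fun h => ht1 (congrArg Subtype.val h)
    have m1 : ∀ e, tpow τ e ∈ ({1, τ} : Finset E) := fun e => by cases e <;> simp [tpow]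
    have m2 : ∀ e x, tpow τ e * tpow a x ∈ ({1, τ, a, τ * a} : Finset E) := fun e x => by
      cases e <;> cases x <;> simp [tpow]
    have m3 : ∀ e x y, tpow τ e * tpow a x * tpow b y ∈
        ({1, τ, a, τ * a} ∪ {b, τ * b, a * b, τ * (a * b)} : Finset E) := fun e x y => by
      cases e <;> cases x <;> cases y <;> simp [tpow, mul_assoc]
    rintro e ⟨x, y, z⟩ h
    simp only [P, ← mul_assoc] at h
    cases z
    swap
    · exact absurd ((show c = _ from hinv _ _ h) ▸ m3 e x y) hcm
    simp only [tpow_false, mul_one] at h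
    cases y
    swap
    · exact absurd ((show b = _ from hinv _ _ h) ▸ m2 e x) hb
    simp only [tpow_false, mul_one] at h
    cases x
    swap
    · exact absurd ((show a = _ from hinv _ _ h) ▸ m1 e) ha
    simp only [tpow_false, mul_one] at h
    cases e
    · exact ⟨rfl, rfl⟩
    · exact absurd h hτ1
  refine ⟨fun v => P v, fun v => (P v).2, fun u v => congrArg Subtype.val (hP u v), ?_, ?_⟩
  all_goals
    have hval : ∀ e v, ((tpow τ e * P v : E) : C) = tpow t e * (P v : C) := fun e v => by
      cases e <;> simp [tpow, hτ]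
  · intro e e' u v h
    rw [← hval, ← hval] at h
    have h' := Subtype.ext h
    have := hker (e ^^ e') (vadd u v) (by
      rw [tpow_xor' (hs _), hP]
      calc _ = (tpow τ e * P u) * (tpow τ e' * P v) := by ac_rfl
        _ = 1 := by rw [h', hs])
    exact ⟨by simpa using this.1, vadd_eq_v0 u v this.2⟩
  · intro x hx
    have hinj : Function.Injective (fun z : Bool × V => tpow τ z.1 * P z.2) := fun z w h => by
      have := hker (z.1 ^^ w.1) (vadd z.2 w.2) (by
        rw [tpow_xor' (hs _), hP]
        calc _ = (tpow τ z.1 * P z.2) * (tpow τ w.1 * P w.2) := by ac_rfl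
          _ = 1 := by
            rw [show tpow τ z.1 * P z.2 = tpow τ w.1 * P w.2 from h, hs])
      exact Prod.ext (by simpa using this.1) (vadd_eq_v0 _ _ this.2)
    have hbij := (Fintype.bijective_iff_injective_and_card _).2 ⟨hinj, by
      rw [← Nat.card_eq_fintype_card (α := E), hcard]; rfl⟩
    obtain ⟨⟨e, v⟩, hev⟩ := hbij.2 ⟨x, hx⟩
    exact ⟨e, v, by rw [← hval]; exact (congrArg Subtype.val hev).symm⟩

/-- Conjugation of a parametrised normal piece in coordinates. -/
theorem exists_conj {t : C} (htn : t ≠ 1) (hts : t * t = 1) (htc : ∀ c, t * c = c * t)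
    {E : Subgroup C} (hn : E.Normal) {A : V → C} (hmem : ∀ v, A v ∈ E)
    (hadd : ∀ a b, A (vadd a b) = A a * A b)
    (hinj : ∀ e e' a b, tpow t e * A a = tpow t e' * A b → e = e' ∧ a = b)
    (hall : ∀ x ∈ E, ∃ e v, x = tpow t e * A v) (c : C) :
    ∃ (g : V → V) (w : V), Function.Bijective g ∧ (∀ a b, g (vadd a b) = vadd (g a) (g b)) ∧
      ∀ u, c * A u = tpow t (dot (g u) w) * A (g u) * c := by
  choose f g hfg using fun u => hall _ (hn.conj_mem _ (hmem u) c)
  have hadd' : ∀ a b, f (vadd a b) = (f a ^^ f b) ∧ g (vadd a b) = vadd (g a) (g b) := fun a b =>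
    hinj _ _ _ _ (by
      rw [← hfg, hadd, hadd, tpow_xor' hts]
      calc c * (A a * A b) * c⁻¹ = c * A a * c⁻¹ * (c * A b * c⁻¹) := by group
        _ = tpow t (f a) * A (g a) * (tpow t (f b) * A (g b)) := by rw [← hfg, ← hfg]
        _ = tpow t (f a) * (A (g a) * tpow t (f b)) * A (g b) := by group
        _ = tpow t (f a) * (tpow t (f b) * A (g a)) * A (g b) := by rw [tpow_central htc _ (A (g a))]
        _ = _ := by group)
  have h0 : A v0 = 1 := by
    have h := hadd v0 v0
    rw [(vadd_v0 v0).1] at h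
    exact left_eq_mul.mp h
  have hgi : Function.Injective g := by
    intro a b hab
    have hz : g (vadd a b) = v0 := by rw [(hadd' a b).2, hab, (vadd_v0 _).2.2]
    have h1 : c * A (vadd a b) * c⁻¹ = tpow t (f (vadd a b)) := by rw [hfg, hz, h0, mul_one]
    have h2 : A (vadd a b) = tpow t (f (vadd a b)) := by
      calc A (vadd a b) = c⁻¹ * (c * A (vadd a b) * c⁻¹) * c := by group
        _ = c⁻¹ * (tpow t (f (vadd a b)) * c) := by rw [h1, mul_assoc]
        _ = _ := by rw [tpow_central htc _ c]; group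
    exact vadd_eq_v0 a b (hinj false (f (vadd a b)) _ v0 (by simp [tpow, h0]; exact h2)).2
  have hgb : Function.Bijective g := Finite.injective_iff_bijective.1 hgi
  let gi := Equiv.ofBijective g hgb
  refine ⟨g, (f (gi.symm u1), f (gi.symm u2), f (gi.symm u3)), hgb, fun a b => (hadd' a b).2, fun u => ?_⟩
  have hl : ∀ a b, f (gi.symm (vadd a b)) = (f (gi.symm a) ^^ f (gi.symm b)) := fun a b => by
    rw [← (hadd' _ _).1]
    congr 1
    refine hgi ?_
    rw [(hadd' _ _).2]
    exact (gi.apply_symm_apply _).trans (by rw [show g (gi.symm a) = a from gi.apply_symm_apply a,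
      show g (gi.symm b) = b from gi.apply_symm_apply b])
  have := functional_eq_dot (fun v => f (gi.symm v)) hl (g u)
  simp only [show gi.symm (g u) = u from gi.symm_apply_apply u] at this
  rw [← this, ← hfg, inv_mul_cancel_right]

variable [Finite C] {t : C} {Q E₁ E₂ : Subgroup C}

/-- The frame of the two pieces. -/
theorem Pieces.exists_frame (H : Pieces t Q E₁ E₂) : ∃ F : Frame C, F.t = t := by
  classical
  obtain ⟨A, hAm, hAadd, hAinj, hAall⟩ := exists_basis H.sq₁ H.card₁ H.t_mem₁ H.t_ne
  obtain ⟨B₀, hBm, hBadd, hBinj, hBall⟩ := exists_basis H.sq₂ H.card₂ H.t_mem₂ H.t_ne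
  have htp := tpow_central H.t_comm
  have hA0 : A v0 = 1 := by
    have h := hAadd v0 v0
    rw [(vadd_v0 v0).1] at h
    exact left_eq_mul.mp h
  have hpair : ∀ u v, ∃ b, B₀ v * A u = tpow t b * (A u * B₀ v) := by
    intro u v
    have hai : (A u)⁻¹ = A u := inv_eq_of_mul_eq_one_right (H.sq₁ _ (hAm u))
    have hbi : (B₀ v)⁻¹ = B₀ v := inv_eq_of_mul_eq_one_right (H.sq₂ _ (hBm v))
    have h1 : B₀ v * A u * (B₀ v)⁻¹ * (A u)⁻¹ ∈ E₁ :=
      mul_mem (H.normal₁.conj_mem _ (hAm u) _) (inv_mem (hAm u))
    have h2 : B₀ v * A u * (B₀ v)⁻¹ * (A u)⁻¹ ∈ E₂ := by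
      rw [mul_assoc, mul_assoc]
      refine mul_mem (hBm v) ?_
      rw [← mul_assoc]
      exact H.normal₂.conj_mem _ (inv_mem (hBm v)) _
    rcases H.meet _ h1 h2 with h | h
    · exact ⟨false, by simp only [tpow, Bool.false_eq_true, if_false, one_mul]
                       rw [mul_inv_eq_one, mul_inv_eq_iff_eq_mul] at h; exact h⟩
    · refine ⟨true, ?_⟩
      simp only [tpow, if_true]
      rw [mul_inv_eq_iff_eq_mul, mul_inv_eq_iff_eq_mul] at h
      rw [h, mul_assoc]
  choose χ hχ using hpair
  have χu : ∀ a b v, χ (vadd a b) v = (χ a v ^^ χ b v) := fun a b v => tpow_inj H.t_ne (mul_right_cancel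
    (b := A (vadd a b) * B₀ v) (by
      rw [← hχ, tpow_xor' H.t_sq, hAadd]
      calc B₀ v * (A a * A b) = tpow t (χ a v) * (A a * B₀ v) * A b := by rw [← hχ, mul_assoc]
        _ = tpow t (χ a v) * A a * (B₀ v * A b) := by group
        _ = tpow t (χ a v) * (A a * tpow t (χ b v)) * (A b * B₀ v) := by rw [hχ]; group
        _ = tpow t (χ a v) * (tpow t (χ b v) * A a) * (A b * B₀ v) := by rw [htp _ (A a)]
        _ = _ := by group))
  have χv : ∀ u a b, χ u (vadd a b) = (χ u a ^^ χ u b) := fun u a b => tpow_inj H.t_ne (mul_right_cancel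
    (b := A u * B₀ (vadd a b)) (by
      rw [← hχ, tpow_xor' H.t_sq, hBadd]
      calc B₀ a * B₀ b * A u = B₀ a * tpow t (χ u b) * (A u * B₀ b) := by rw [mul_assoc, hχ]; group
        _ = tpow t (χ u b) * (B₀ a * A u) * B₀ b := by rw [← htp _ (B₀ a)]; group
        _ = tpow t (χ u b) * tpow t (χ u a) * (A u * (B₀ a * B₀ b)) := by rw [hχ]; group
        _ = _ := by rw [htp _ (tpow t _)]))
  have hgenQ : ∀ c, (∀ u, c * A u = A u * c) → (∀ v, c * B₀ v = B₀ v * c) → ∀ y ∈ Q, c * y = y * c := by
    intro c h1 h2 y hy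
    have hle : Q ≤ Subgroup.centralizer {c} := by
      rw [← H.join, sup_le_iff]
      constructor <;> intro x hx <;> rw [Subgroup.mem_centralizer_singleton_iff]
      · obtain ⟨e, v, rfl⟩ := hAall x hx
        rw [mul_assoc, ← h1, ← mul_assoc, htp, mul_assoc]
      · obtain ⟨e, v, rfl⟩ := hBall x hx
        rw [mul_assoc, ← h2, ← mul_assoc, htp, mul_assoc]
    exact (Subgroup.mem_centralizer_singleton_iff.1 (hle hy)).symm
  have habel : ∀ (E : Subgroup C), (∀ x ∈ E, x * x = 1) → ∀ x ∈ E, ∀ y ∈ E, x * y = y * x := by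
    intro E hE x hx y hy
    calc x * y = (x * y)⁻¹ := (inv_eq_of_mul_eq_one_right (hE _ (mul_mem hx hy))).symm
      _ = _ := by rw [mul_inv_rev, inv_eq_of_mul_eq_one_right (hE x hx), inv_eq_of_mul_eq_one_right (hE y hy)]
  let κ : V → V := fun v => (χ u1 v, χ u2 v, χ u3 v)
  have hκ : ∀ u v, χ u v = dot u (κ v) := fun u v =>
    functional_eq_dot (fun w => χ w v) (fun a b => χu a b v) u
  have hκadd : ∀ a b, κ (vadd a b) = vadd (κ a) (κ b) := fun a b =>
    Prod.ext (χv u1 a b) (Prod.ext (χv u2 a b) (χv u3 a b))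
  have hκi : Function.Injective κ := by
    intro a b hab
    have hz : κ (vadd a b) = v0 := by rw [hκadd, hab, (vadd_v0 _).2.2]
    have hcomA : ∀ u, B₀ (vadd a b) * A u = A u * B₀ (vadd a b) := fun u => by
      rw [hχ, hκ, hz, show dot u v0 = false by revert u; decide]
      simp [tpow]
    have hmemQ : B₀ (vadd a b) ∈ Q := H.join ▸ Subgroup.mem_sup_right (hBm _)
    refine vadd_eq_v0 a b ?_
    have hB0 : B₀ v0 = 1 := by
      have h := hBadd v0 v0
      rw [(vadd_v0 v0).1] at h
      exact left_eq_mul.mp h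
    rcases H.centre _ hmemQ (hgenQ _ hcomA fun v => habel _ H.sq₂ _ (hBm _) _ (hBm v)) with h | h
    · exact (hBinj false false _ v0 (by simpa [tpow, hB0] using h)).2
    · exact (hBinj false true _ v0 (by simpa [tpow, hB0] using h)).2
  let κe := Equiv.ofBijective κ (Finite.injective_iff_bijective.1 hκi)
  let B : V → C := fun v => B₀ (κe.symm v)
  have hκs : ∀ v, κ (κe.symm v) = v := κe.apply_symm_apply
  have hBadd' : ∀ a b, B (vadd a b) = B a * B b := fun a b => by
    show B₀ _ = _
    rw [← hBadd]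
    congr 1
    exact hκi (by rw [hκs, hκadd, hκs, hκs])
  have hcomm : ∀ u v, B v * A u = tpow t (dot u v) * (A u * B v) := fun u v => by
    show B₀ _ * A u = _
    rw [hχ, hκ, hκs]
  have hBinj' : ∀ e e' a b, tpow t e * B a = tpow t e' * B b → e = e' ∧ a = b := fun e e' a b h =>
    ⟨(hBinj _ _ _ _ h).1, κe.symm.injective (hBinj _ _ _ _ h).2⟩
  have hBall' : ∀ x ∈ E₂, ∃ e v, x = tpow t e * B v := fun x hx => by
    obtain ⟨e, v, h⟩ := hBall x hx
    exact ⟨e, κe v, by simpa [B] using h⟩
  have hBmem : ∀ v, B v ∈ E₂ := fun v => hBm _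
  clear_value B
  have hcomm' : ∀ u v, A u * B v = tpow t (dot u v) * (B v * A u) := fun u v => by
    rw [hcomm, ← mul_assoc, ← tpow_xor' H.t_sq, Bool.xor_self]
    simp [tpow]
  -- the normalizer
  let PA : C → Prop := fun c => ∀ u, ∃ w, c * A u = A w * c
  let PB : C → Prop := fun c => ∀ u, ∃ w, c * B u = B w * c
  have inv_closed : ∀ (D : V → C), (∀ e e' a b, tpow t e * D a = tpow t e' * D b → e = e' ∧ a = b) →
      ∀ c, (∀ u, ∃ w, c * D u = D w * c) → ∀ u, ∃ w, c⁻¹ * D u = D w * c⁻¹ := by
    intro D hD c h u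
    choose w hw using h
    have hwi : Function.Injective w := fun a b hab => (hD false false a b (by
      have := (hw a).trans (by rw [hab, ← hw b])
      simpa [tpow] using mul_left_cancel this)).2
    obtain ⟨v, hv⟩ := (Finite.injective_iff_surjective.1 hwi) u
    refine ⟨v, ?_⟩
    rw [← hv, eq_mul_inv_iff_mul_eq, mul_assoc, ← hw, inv_mul_cancel_left]
  let P : Subgroup C :=
    { carrier := {c | PA c ∧ PB c}
      one_mem' := ⟨fun u => ⟨u, by simp⟩, fun u => ⟨u, by simp⟩⟩
      mul_mem' := by
        rintro c d ⟨c1, c2⟩ ⟨d1, d2⟩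
        constructor
        · intro u
          obtain ⟨w, hw⟩ := d1 u
          obtain ⟨w', hw'⟩ := c1 w
          exact ⟨w', by rw [mul_assoc, hw, ← mul_assoc, hw', mul_assoc]⟩
        · intro u
          obtain ⟨w, hw⟩ := d2 u
          obtain ⟨w', hw'⟩ := c2 w
          exact ⟨w', by rw [mul_assoc, hw, ← mul_assoc, hw', mul_assoc]⟩
      inv_mem' := by
        rintro c ⟨c1, c2⟩
        exact ⟨inv_closed A hAinj c c1, inv_closed B hBinj' c c2⟩ }
  have hφex : ∀ p ∈ P, ∃ g : M, det g = true ∧ (∀ u, p * A u = A (mv g u) * p) ∧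
      ∀ v, p * B v = B (mv (dual g) v) * p := by
    rintro p ⟨p1, p2⟩
    choose w hw using p1
    have hwadd : ∀ a b, w (vadd a b) = vadd (w a) (w b) := fun a b => (hAinj false false _ _ (by
      simp only [tpow, Bool.false_eq_true, if_false, one_mul]
      refine mul_right_cancel (b := p) ?_
      rw [← hw, hAadd, hAadd, mul_assoc _ _ p, ← hw b, ← mul_assoc p, ← mul_assoc, ← hw a])).2
    have hwi : Function.Injective w := fun a b hab => (hAinj false false a b (by
      simp only [tpow, Bool.false_eq_true, if_false, one_mul]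
      exact mul_left_cancel ((hw a).trans (by rw [hab, ← hw b])))).2
    set g : M := (w u1, w u2, w u3) with hg
    have hgw : ∀ u, w u = mv g u := linear_eq_mv w hwadd
    have hdet : det g = true := det_of_inj g fun v hv => hwi (by
      rw [hgw, hv]
      have h := hwadd v0 v0
      rw [(vadd_v0 v0).1, (vadd_v0 (w v0)).2.2] at h
      exact h.symm)
    refine ⟨g, hdet, fun u => by rw [← hgw, hw], fun v => ?_⟩
    obtain ⟨v', hv'⟩ := p2 v
    suffices h : v' = mv (dual g) v by rw [← h, hv']
    refine dot_ext _ _ fun x => ?_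
    obtain ⟨u, rfl⟩ := (Finite.injective_iff_surjective.1 hwi) x
    rw [hgw u, dot_dual g hdet]
    refine (tpow_inj H.t_ne (mul_right_cancel (b := A (w u) * B v' * p) ?_)).trans rfl
    rw [← hgw]
    calc tpow t (dot (w u) v') * (A (w u) * B v' * p) = B v' * A (w u) * p := by
          rw [hcomm, mul_assoc (tpow t _)]
      _ = B v' * p * A u := by rw [mul_assoc, ← hw u, ← mul_assoc]
      _ = p * (B v * A u) := by rw [← hv', mul_assoc]
      _ = p * tpow t (dot u v) * (A u * B v) := by rw [hcomm, ← mul_assoc]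
      _ = tpow t (dot u v) * (p * A u * B v) := by rw [← htp _ p]; group
      _ = tpow t (dot u v) * (A (w u) * (p * B v)) := by rw [hw u]; group
      _ = _ := by rw [hv']; group
  choose! φ hdetφ hconjA hconjB using hφex
  have hker : ∀ p ∈ P, φ p = mid → p = 1 ∨ p = t := by
    intro p hp h
    have hcA : ∀ u, p * A u = A u * p := fun u => by rw [hconjA p hp, h, mv_mid]
    have hcB : ∀ v, p * B₀ v = B₀ v * p := fun v => by
      obtain ⟨e, w, hw⟩ := hBall' _ (hBm v)
      rw [hw, ← mul_assoc, ← htp _ p, mul_assoc, hconjB p hp, h, dual_mid, mv_mid, mul_assoc]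
    have hc := hgenQ p hcA hcB
    exact H.centre p (H.cent p hc) hc
  have hinj : ∀ e u v, tpow t e * (A u * B v) ∈ P → u = v0 ∧ v = v0 := by
    rintro e u v ⟨h1, h2⟩
    constructor
    · refine dot_ext _ _ fun y => ?_
      have hd : ∀ w, dot u w = false := by
        intro w
        obtain ⟨w', hw'⟩ := h2 w
        have hb : tpow t e * (A u * B v) * B w = tpow t (dot u w) * B w * (tpow t e * (A u * B v)) := by
          calc tpow t e * (A u * B v) * B w = tpow t e * (A u * (B v * B w)) := by group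
            _ = tpow t e * (A u * (B w * B v)) := by rw [← hBadd', vadd_comm, hBadd']
            _ = tpow t e * (tpow t (dot u w) * (B w * A u) * B v) := by rw [← hcomm', mul_assoc]
            _ = tpow t e * (tpow t (dot u w) * B w) * (A u * B v) := by group
            _ = _ := by rw [htp e]; group
        have h := mul_right_cancel (hb.symm.trans hw')
        exact (hBinj' (dot u w) false w w' (by simpa [tpow] using h)).1
      rw [show dot y v0 = false by revert y; decide, dot_comm, hd y]
    · refine dot_ext _ _ fun y => ?_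
      rw [show dot y v0 = false by revert y; decide]
      obtain ⟨w', hw'⟩ := h1 y
      have ha : tpow t e * (A u * B v) * A y = tpow t (dot y v) * A y * (tpow t e * (A u * B v)) := by
        calc tpow t e * (A u * B v) * A y = tpow t e * (A u * (B v * A y)) := by group
          _ = tpow t e * ((A u * tpow t (dot y v)) * (A y * B v)) := by rw [hcomm]; group
          _ = tpow t e * (tpow t (dot y v) * (A u * A y) * B v) := by rw [← htp _ (A u)]; group
          _ = tpow t e * (tpow t (dot y v) * (A y * A u) * B v) := by rw [← hAadd, vadd_comm, hAadd]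
          _ = tpow t e * (tpow t (dot y v) * A y) * (A u * B v) := by group
          _ = _ := by rw [htp e]; group
      have h := mul_right_cancel (ha.symm.trans hw')
      exact (hAinj (dot y v) false y w' (by simpa [tpow] using h)).1
  have hsurj : ∀ c, ∃ e u v p, p ∈ P ∧ c = tpow t e * (A u * B v) * p := by
    intro c
    obtain ⟨g, w, -, -, hg⟩ := exists_conj H.t_ne H.t_sq H.t_comm H.normal₁ hAm hAadd hAinj hAall c
    set p₁ := B w * c with hp₁
    have h1 : ∀ u, p₁ * A u = A (g u) * p₁ := fun u => by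
      rw [hp₁, mul_assoc, hg]
      calc B w * (tpow t (dot (g u) w) * A (g u) * c)
          = B w * tpow t (dot (g u) w) * (A (g u) * c) := by group
        _ = tpow t (dot (g u) w) * (B w * A (g u)) * c := by rw [← htp _ (B w)]; group
        _ = tpow t (dot (g u) w) * tpow t (dot (g u) w) * (A (g u) * B w) * c := by rw [hcomm]; group
        _ = _ := by rw [← tpow_xor' H.t_sq, Bool.xor_self]; simp [tpow]; group
    obtain ⟨k, z, -, -, hk⟩ := exists_conj H.t_ne H.t_sq H.t_comm H.normal₂ (A := B) hBmem hBadd' hBinj' hBall' p₁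
    refine ⟨dot z w, z, w, A z * p₁, ⟨fun u => ⟨g u, ?_⟩, fun v => ⟨k v, ?_⟩⟩, ?_⟩
    · rw [mul_assoc, h1, ← mul_assoc, ← hAadd, vadd_comm, hAadd, mul_assoc]
    · rw [mul_assoc, hk]
      calc A z * (tpow t (dot (k v) z) * B (k v) * p₁)
          = A z * tpow t (dot (k v) z) * (B (k v) * p₁) := by group
        _ = tpow t (dot (k v) z) * (A z * B (k v)) * p₁ := by rw [← htp _ (A z)]; group
        _ = tpow t (dot (k v) z) * tpow t (dot z (k v)) * (B (k v) * A z) * p₁ := by rw [hcomm']; group
        _ = _ := by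
          rw [← tpow_xor' H.t_sq, dot_comm (k v) z, Bool.xor_self]; simp [tpow]; group
    · have hz : A z * A z = 1 := H.sq₁ _ (hAm z)
      have hw : B w * B w = 1 := by rw [← hBadd', (vadd_v0 w).2.2]; exact (left_eq_mul.mp ((congrArg B (vadd_v0 v0).1.symm).trans (hBadd' v0 v0)))
      calc c = B w * B w * c := by rw [hw, one_mul]
        _ = B w * (A z * A z) * p₁ := by rw [hz, hp₁]; group
        _ = B w * A z * (A z * p₁) := by group
        _ = _ := by rw [hcomm]
  have hsur : ∀ g, det g = true → ∃ p ∈ P, φ p = g := by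
    haveI := H.normalQ
    have hrep : ∀ x : C ⧸ Q, ∃ p ∈ P, (QuotientGroup.mk p : C ⧸ Q) = x := by
      intro x
      obtain ⟨c, rfl⟩ := QuotientGroup.mk_surjective x
      obtain ⟨e, u, v, p, hp, rfl⟩ := hsurj c
      refine ⟨p, hp, ?_⟩
      have hq : tpow t e * (A u * B v) ∈ Q := by
        rw [← H.join]
        refine mul_mem (Subgroup.mem_sup_left ?_)
          (mul_mem (Subgroup.mem_sup_left (hAm u)) (Subgroup.mem_sup_right (hBmem v)))
        rcases tpow_cases t e with h | h <;> rw [h]
        · exact one_mem _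
        · exact H.t_mem₁
      rw [QuotientGroup.mk_mul, (QuotientGroup.eq_one_iff _).2 hq, one_mul]
    choose r hr1 hr2 using hrep
    have hi : Function.Injective (fun x => (⟨φ (r x), hdetφ _ (hr1 x)⟩ : {g : M // det g = true})) := by
      intro x y hxy
      have h : φ (r x) = φ (r y) := congrArg Subtype.val hxy
      have hd : (r x)⁻¹ * r y ∈ P := mul_mem (inv_mem (hr1 x)) (hr1 y)
      have hfix : ∀ u, mv (φ ((r x)⁻¹ * r y)) u = u := by
        intro u
        have h1 := hconjA _ (hr1 y) u
        have e : r y * A u = A (mv (φ (r x)) (mv (φ ((r x)⁻¹ * r y)) u)) * r y := by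
          calc r y * A u = r x * ((r x)⁻¹ * r y * A u) := by group
            _ = r x * A (mv (φ ((r x)⁻¹ * r y)) u) * ((r x)⁻¹ * r y) := by
              rw [hconjA _ hd, ← mul_assoc]
            _ = _ := by rw [hconjA _ (hr1 x)]; group
        have h2 := mul_right_cancel (e.symm.trans h1)
        have h3 := (hAinj false false _ _ (by simpa [tpow] using h2)).2
        rw [← h] at h3
        refine vadd_eq_v0 _ _ (inj_of_det _ (hdetφ _ (hr1 x)) _ ?_)
        rw [mv_vadd, h3, (vadd_v0 _).2.2]
      have hm : φ ((r x)⁻¹ * r y) = mid := by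
        obtain ⟨a, b, c⟩ := mv_unit (φ ((r x)⁻¹ * r y))
        exact Prod.ext (by rw [← a, hfix]; rfl)
          (Prod.ext (by rw [← b, hfix]; rfl) (by rw [← c, hfix]; rfl))
      rw [← hr2 x, ← hr2 y, QuotientGroup.eq]
      rcases hker _ hd hm with e | e <;> rw [e]
      · exact one_mem _
      · exact H.join ▸ Subgroup.mem_sup_left H.t_mem₁
    have hcard : Nat.card {g : M // det g = true} = 168 := by
      haveI : Fintype {g : M // det g = true} := Subtype.fintype _
      rw [Nat.card_eq_fintype_card, Fintype.card_of_subtype (allM.filter det).toFinset fun g => by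
        simp [mem_allM g], List.toFinset_card_of_nodup (allM_nodup.filter _), card_det]
    have hb := (Nat.bijective_iff_injective_and_card _).2
      ⟨hi, by rw [hcard, ← Subgroup.index_eq_card, H.index]⟩
    intro g hg
    obtain ⟨x, hx⟩ := hb.2 ⟨g, hg⟩
    exact ⟨r x, hr1 x, congrArg Subtype.val hx⟩
  exact ⟨{ t := t, A := A, B := B, P := P, φ := φ
           t_ne := H.t_ne, t_sq := H.t_sq, t_comm := H.t_comm
           A_add := hAadd, B_add := hBadd', comm := hcomm
           t_mem := ⟨fun u => ⟨u, H.t_comm _⟩, fun u => ⟨u, H.t_comm _⟩⟩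
           inj := hinj, surj := hsurj, conjA := hconjA, conjB := hconjB
           ker := hker, det_φ := hdetφ, φ_surj := hsur }, rfl⟩

end CfsgLib.HeldC
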