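import Cfsg.Agent.HeldU.Frame.Basic
import Cfsg.Agent.ZStar.Final
import Cfsg.Prelude.Def_TwoFusion

/-!
The twisted extension `2^(1+6).L3(2)` is not an involution centralizer in a simple group: its
central involution would be isolated.
-/

set_option autoImplicit false
set_option linter.unusedSectionVars false
set_option maxRecDepth 4000
set_option synthInstance.maxSize 2000

namespace CfsgLib.HeldC

universe u

variable {C : Type u} [Group C]

/-- The number of square roots. -/
noncomputable def rootCount (x : C) : ℕ := Nat.card {y : C // y * y = x}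

/-- The number of square roots of `t` commuting with `x`. -/
noncomputable def rootComm (t x : C) : ℕ := Nat.card {y : C // y * y = t ∧ y * x = x * y}

theorem rootCount_conj (p x : C) : rootCount (p * x * p⁻¹) = rootCount x := by
  refine (Nat.card_congr ((MulAut.conj p).toEquiv.subtypeEquiv fun y => ?_)).symm
  show y * y = x ↔ p * y * p⁻¹ * (p * y * p⁻¹) = p * x * p⁻¹
  constructor
  · rintro rfl; group
  · intro h
    have : p * (y * y) * p⁻¹ = p * x * p⁻¹ := by rw [← h]; group
    exact mul_left_cancel (mul_right_cancel this)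

theorem rootComm_conj {t : C} (p x : C) (h : p * t = t * p) :
    rootComm t (p * x * p⁻¹) = rootComm t x := by
  refine (Nat.card_congr ((MulAut.conj p).toEquiv.subtypeEquiv fun y => ?_)).symm
  show (y * y = t ∧ y * x = x * y) ↔
    (p * y * p⁻¹ * (p * y * p⁻¹) = t ∧ p * y * p⁻¹ * (p * x * p⁻¹) = p * x * p⁻¹ * (p * y * p⁻¹))
  have ht : p * t * p⁻¹ = t := by rw [h, mul_inv_cancel_right]
  constructor
  · rintro ⟨h1, h2⟩
    refine ⟨?_, ?_⟩
    · rw [← ht, ← h1]; group
    · calc p * y * p⁻¹ * (p * x * p⁻¹) = p * (y * x) * p⁻¹ := by group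
        _ = p * (x * y) * p⁻¹ := by rw [h2]
        _ = _ := by group
  · rintro ⟨h1, h2⟩
    refine ⟨?_, ?_⟩
    · have : p * (y * y) * p⁻¹ = p * t * p⁻¹ := by rw [ht, ← h1]; group
      exact mul_left_cancel (mul_right_cancel this)
    · have : p * (y * x) * p⁻¹ = p * (x * y) * p⁻¹ := by
        calc p * (y * x) * p⁻¹ = p * y * p⁻¹ * (p * x * p⁻¹) := by group
          _ = p * x * p⁻¹ * (p * y * p⁻¹) := h2
          _ = _ := by group
      exact mul_left_cancel (mul_right_cancel this)

section Count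

variable [Finite C] (f : M → Z → C) (L : List M) (p : M → Z → Bool) (Pr : C → Prop)

theorem card_le_sum (h : ∀ y, Pr y → ∃ g ∈ L, ∃ z, p g z = true ∧ y = f g z) :
    Nat.card {y : C // Pr y} ≤ (L.map fun g => allZ.countP (p g)).sum := by
  classical
  haveI := Fintype.ofFinite C
  rw [Nat.card_eq_fintype_card, Fintype.card_subtype]
  refine le_trans (Finset.card_le_card (t := (L.flatMap fun g => (allZ.filter (p g)).map (f g)).toFinset)
    fun y hy => ?_) (le_trans (List.toFinset_card_le _) (le_of_eq ?_))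
  · obtain ⟨g, hg, z, hz, rfl⟩ := h y (Finset.mem_filter.1 hy).2
    exact List.mem_toFinset.2 (List.mem_flatMap.2 ⟨g, hg, List.mem_map.2 ⟨z, List.mem_filter.2 ⟨mem_allZ z, hz⟩, rfl⟩⟩)
  · simp [List.length_flatMap, List.countP_eq_length_filter]

theorem sum_le_card (hL : L.Nodup) (hinj : ∀ g ∈ L, ∀ g' ∈ L, ∀ z z', f g z = f g' z' → g = g' ∧ z = z')
    (h : ∀ g ∈ L, ∀ z, p g z = true → Pr (f g z)) :
    (L.map fun g => allZ.countP (p g)).sum ≤ Nat.card {y : C // Pr y} := by
  classical
  haveI := Fintype.ofFinite C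
  rw [Nat.card_eq_fintype_card, Fintype.card_subtype]
  have hnd : (L.flatMap fun g => (allZ.filter (p g)).map (f g)).Nodup := by
    rw [List.nodup_flatMap]
    refine ⟨fun g hg => List.Nodup.map_on (fun z _ z' _ e => (hinj g hg g hg z z' e).2) (allZ_nodup.filter _), ?_⟩
    refine hL.imp_of_mem fun {g g'} hg hg' hne => ?_
    intro y hy hy'
    obtain ⟨z, -, rfl⟩ := List.mem_map.1 hy
    obtain ⟨z', -, e⟩ := List.mem_map.1 hy'
    exact hne (hinj g' hg' g hg z' z e).1.symm
  refine le_trans (le_of_eq ?_) ((List.toFinset_card_of_nodup hnd).symm.le.trans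
    (Finset.card_le_card fun y hy => ?_))
  · simp [List.length_flatMap, List.countP_eq_length_filter]
  · obtain ⟨g, hg, hy⟩ := List.mem_flatMap.1 (List.mem_toFinset.1 hy)
    obtain ⟨z, hz, rfl⟩ := List.mem_map.1 hy
    exact Finset.mem_filter.2 ⟨Finset.mem_univ _, h g hg z (List.mem_filter.1 hz).2⟩

end Count

theorem comm0_facts : ∀ h ∈ comm0, mm h g0 ∈ invols ∧
    (h ≠ mid → h ≠ g0 → mm h g0 ≠ mid) := by decide +kernel

theorem g0_facts : det g0 = true ∧ mm g0 g0 = mid ∧ g0 ≠ mid := by decide +kernel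

theorem mem_invols {h : M} : h ∈ invols ↔ det h = true ∧ mm h h = mid := by
  simp [invols, mem_allM]

namespace Frame

variable (F : Frame C)

/-- The frame is twisted: involutions of `L3(2)` lift to elements of order four in `P`. -/
def Twisted : Prop :=
  ∀ p ∈ F.P, mm (F.φ p) (F.φ p) = mid → F.φ p ≠ mid → p * p = F.t

theorem lift_mul {g h : M} (hg : det g = true) (hh : det h = true) :
    det (mm g h) = true ∧ ∃ c, F.lift g * F.lift h = tpow F.t c * F.lift (mm g h) := by
  have hm := F.P.mul_mem (F.lift_mem g) (F.lift_mem h)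
  have he : F.φ (F.lift g * F.lift h) = mm g h := by
    rw [F.φ_mul (F.lift_mem g) (F.lift_mem h), F.φ_lift hg, F.φ_lift hh]
  have hd : det (mm g h) = true := he ▸ F.det_φ _ hm
  refine ⟨hd, ?_⟩
  rcases F.eq_or_eq_of_φ (F.lift_mem (mm g h)) hm (by rw [F.φ_lift hd, he]) with e | e
  · exact ⟨false, by rw [e]; simp [tpow]⟩
  · exact ⟨true, by rw [e]; simp [tpow]⟩

theorem q_tpow (z : Z) (b : Bool) (r : C) : F.q z * (tpow F.t b * r) = F.q (flipz b z) * r := by
  rw [F.q_flipz, ← mul_assoc, ← F.tpow_comm]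

theorem mul_lift_coord (z w : Z) {g h : M} (hg : det g = true) (hh : det h = true) :
    ∃ c, F.q z * F.lift g * (F.q w * F.lift h) =
      F.q (flipz c (qm z (qact g w))) * F.lift (mm g h) := by
  obtain ⟨-, c, hc⟩ := F.lift_mul hg hh
  exact ⟨c, by rw [F.mul_coord z w (F.lift_mem g), F.φ_lift hg, hc, F.q_tpow]⟩

theorem lift_sq (hT : F.Twisted) {h : M} (hh : h ∈ invols) :
    F.lift h * F.lift h = tpow F.t (decide (h ≠ mid)) := by
  obtain ⟨hd, h2⟩ := mem_invols.1 hh
  by_cases h1 : h = mid
  · subst h1; simp [F.lift_mid, tpow]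
  · rw [hT _ (F.lift_mem h) (by rw [F.φ_lift hd]; exact h2) (by rw [F.φ_lift hd]; exact h1)]
    simp [tpow, h1]

theorem sq_coord (hT : F.Twisted) (z : Z) {h : M} (hh : h ∈ invols) :
    F.q z * F.lift h * (F.q z * F.lift h) = F.q (sqTw z h) := by
  rw [F.mul_coord z z (F.lift_mem h), F.φ_lift (mem_invols.1 hh).1, F.lift_sq hT hh, sqTw, F.q_flipz,
    F.tpow_comm]

theorem root_coord {y : C} {w : Z} {g : M} (hg : det g = true) (e : y * y = F.q w * F.lift g) :
    ∃ z h, det h = true ∧ mm h h = g ∧ y = F.q z * F.lift h ∧ (qm z (qact h z)).2 = w.2 := by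
  obtain ⟨z, h, hh, rfl⟩ := F.exists_coord y
  obtain ⟨c, hc⟩ := F.mul_lift_coord z z hh hh
  obtain ⟨h1, h2⟩ := F.coord_inj (F.lift_mul hh hh).1 hg (hc.symm.trans e)
  exact ⟨z, h, hh, h2, rfl, by rw [← h1]; rfl⟩

theorem kill_inside [Finite C] (hT : F.Twisted) (w : Z) (hlt : upQ w < lowQ w) :
    rootCount (F.q w) < rootComm F.t (F.q w) := by
  refine lt_of_le_of_lt ?_ (lt_of_lt_of_le hlt ?_)
  · refine card_le_sum (fun h z => F.q z * F.lift h) invols _ _ fun y hy => ?_
    obtain ⟨z, h, hh, h2, rfl, -⟩ :=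
      F.root_coord (w := w) (g := mid) (by decide) (by rw [hy, F.lift_mid, mul_one])
    have hm := mem_invols.2 ⟨hh, h2⟩
    rw [F.sq_coord hT z hm] at hy
    exact ⟨h, hm, z, by simp [F.q_inj hy], rfl⟩
  · refine sum_le_card (fun h z => F.q z * F.lift h) invols _ _ (allM_nodup.filter _)
      (fun g hg g' hg' z z' e => (F.coord_inj (mem_invols.1 hg).1 (mem_invols.1 hg').1 e).symm.imp id id)
      fun h hh z hz => ?_
    simp only [Bool.and_eq_true, decide_eq_true_eq] at hz
    refine ⟨by rw [F.sq_coord hT z hh, hz.1, F.q_zt], ?_⟩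
    calc F.q z * F.lift h * F.q w = F.q (qm z (qact h w)) * F.lift h := by
          rw [mul_assoc, F.conj_q (F.lift_mem h), F.φ_lift (mem_invols.1 hh).1, F.q_mul, mul_assoc]
      _ = _ := by rw [hz.2, F.q_mul, mul_assoc]

theorem lift_comm0 (hT : F.Twisted) {h : M} (hh : h ∈ comm0) :
    F.lift h * F.lift g0 =
      tpow F.t (decide (h ≠ mid) && decide (h ≠ g0)) * (F.lift g0 * F.lift h) := by
  by_cases h1 : h = mid
  · subst h1; simp [F.lift_mid, tpow]
  by_cases h2 : h = g0
  · subst h2; simp [tpow]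
  have hhi : h ∈ invols := (List.mem_filter.1 hh).1
  obtain ⟨hd, hs⟩ := mem_invols.1 hhi
  obtain ⟨hi, hne⟩ := comm0_facts h hh
  obtain ⟨hdi, hsi⟩ := mem_invols.1 hi
  have ha : F.lift h * F.lift h = F.t := by rw [F.lift_sq hT hhi]; simp [tpow, h1]
  have hb : F.lift g0 * F.lift g0 = F.t := by
    rw [F.lift_sq hT (mem_invols.2 ⟨g0_facts.1, g0_facts.2.1⟩)]
    simp [tpow, g0_facts.2.2]
  have hab : F.lift h * F.lift g0 * (F.lift h * F.lift g0) = F.t := by
    have e : F.φ (F.lift h * F.lift g0) = mm h g0 := by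
      rw [F.φ_mul (F.lift_mem h) (F.lift_mem g0), F.φ_lift hd, F.φ_lift g0_facts.1]
    exact hT _ (F.P.mul_mem (F.lift_mem h) (F.lift_mem g0)) (by rw [e]; exact hsi)
      (by rw [e]; exact hne h1 h2)
  generalize F.lift h = a at ha hab ⊢
  generalize F.lift g0 = b at hb hab ⊢
  simp only [h1, h2, ne_eq, not_false_eq_true, decide_true, Bool.and_self, tpow, if_true]
  calc a * b = a * b * (a * b) * (b⁻¹ * a⁻¹) := by group
    _ = F.t * (b⁻¹ * a⁻¹) := by rw [hab]
    _ = F.t * ((b * F.t) * (a * F.t)) := by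
        have ia : a⁻¹ = a * F.t := inv_eq_of_mul_eq_one_right (by rw [← mul_assoc, ha, F.t_sq])
        have ib : b⁻¹ = b * F.t := inv_eq_of_mul_eq_one_right (by rw [← mul_assoc, hb, F.t_sq])
        rw [ia, ib]
    _ = F.t * (b * (F.t * F.t) * a) := by rw [← F.t_comm a]; group
    _ = _ := by rw [F.t_sq, mul_one]

theorem kill_outside [Finite C] (hT : F.Twisted) (w : Z) (hlt : upG w < lowG w) :
    rootCount (F.q w * F.lift g0) < rootComm F.t (F.q w * F.lift g0) := by
  refine lt_of_le_of_lt ?_ (lt_of_lt_of_le hlt ?_)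
  · refine card_le_sum (fun h z => F.q z * F.lift h) roots0 _ _ fun y hy => ?_
    obtain ⟨z, h, hh, h2, rfl, h3⟩ := F.root_coord g0_facts.1 hy
    exact ⟨h, List.mem_filter.2 ⟨mem_allM h, by simp [hh, h2]⟩, z, by simp [h3], rfl⟩
  · have hc : ∀ h ∈ comm0, det h = true := fun h hh => (mem_invols.1 (List.mem_filter.1 hh).1).1
    refine sum_le_card (fun h z => F.q z * F.lift h) comm0 _ _ ((allM_nodup.filter _).filter _)
      (fun g hg g' hg' z z' e => (F.coord_inj (hc g hg) (hc g' hg') e).symm.imp id id)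
      fun h hh z hz => ?_
    simp only [Bool.and_eq_true, decide_eq_true_eq] at hz
    refine ⟨by rw [F.sq_coord hT z (List.mem_filter.1 hh).1, hz.1, F.q_zt], ?_⟩
    rw [F.mul_coord z w (F.lift_mem h), F.φ_lift (hc h hh), F.lift_comm0 hT hh, F.q_tpow, hz.2,
      F.mul_coord w z (F.lift_mem g0), F.φ_lift g0_facts.1]

section Roots

attribute [local irreducible] upQ lowQ upG lowG invols allM

/-- In a twisted frame every other involution has fewer square roots than the centre has in its
centralizer. -/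
theorem roots_lt [Finite C] (hT : F.Twisted) {x : C} (hx : x * x = 1) (h1 : x ≠ 1) (ht : x ≠ F.t) :
    rootCount x < rootComm F.t x := by
  obtain ⟨w, g, hg, rfl⟩ := F.exists_coord x
  obtain ⟨c, hc⟩ := F.mul_lift_coord w w hg hg
  obtain ⟨-, hg2⟩ := F.coord_inj (F.lift_mul hg hg).1 (show det mid = true by decide)
    (hc.symm.trans (hx.trans (by rw [F.q_z0, F.lift_mid, one_mul] : (1 : C) = F.q z0 * F.lift mid)))
  have hgi := mem_invols.2 ⟨hg, hg2⟩
  have hsq : sqTw w g = z0 := F.q_inj (by rw [← F.sq_coord hT w hgi, hx, F.q_z0])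
  by_cases hgm : g = mid
  · subst hgm
    rw [F.lift_mid, mul_one] at h1 ht hx ⊢
    have hd : dot w.2.1 w.2.2 = false := inside_dot w hsq
    have hne : (w.2.1, w.2.2) ≠ (v0, v0) := by
      intro e
      obtain ⟨a, b, c⟩ := w
      simp only [Prod.mk.injEq] at e
      obtain ⟨rfl, rfl⟩ := e
      cases a
      · exact h1 F.q_z0
      · exact ht F.q_zt
    obtain ⟨k, -, hk, hrep⟩ := conj_pair _ (mem_allV _) _ (mem_allV _) hd hne
    have hq : qact k w = (w.1, mv k w.2.1, mv (dual k) w.2.2) := by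
      obtain ⟨_, _, _⟩ := w
      rfl
    have hlt : upQ (qact k w) < lowQ (qact k w) := by
      rw [hq]
      exact countQ w.1 (by cases w.1 <;> simp) (mv k w.2.1, mv (dual k) w.2.2) hrep
    have e : F.lift k * F.q w * (F.lift k)⁻¹ = F.q (qact k w) := by
      rw [F.conj_q (F.lift_mem k), F.φ_lift hk, mul_inv_cancel_right]
    have := F.kill_inside hT _ hlt
    rwa [← e, rootCount_conj, rootComm_conj _ _ (F.t_comm _).symm] at this
  · obtain ⟨k, -, hk, hkg⟩ := conj_involution g hgi hgm
    have hm := F.P.mul_mem (F.P.mul_mem (F.lift_mem k) (F.lift_mem g)) (F.P.inv_mem (F.lift_mem k))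
    obtain ⟨w', e⟩ : ∃ w', F.lift k * (F.q w * F.lift g) * (F.lift k)⁻¹ = F.q w' * F.lift g0 := by
      have e0 : F.lift k * (F.q w * F.lift g) * (F.lift k)⁻¹ =
          F.q (qact k w) * (F.lift k * F.lift g * (F.lift k)⁻¹) := by
        rw [← mul_assoc, F.conj_q (F.lift_mem k), F.φ_lift hk]; group
      have e1 : F.φ (F.lift k * F.lift g * (F.lift k)⁻¹ * F.lift k) = F.φ (F.lift g0 * F.lift k) := by
        rw [inv_mul_cancel_right, F.φ_mul (F.lift_mem k) (F.lift_mem g),
          F.φ_mul (F.lift_mem g0) (F.lift_mem k), F.φ_lift hk, F.φ_lift hg, F.φ_lift g0_facts.1]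
        exact hkg
      rcases F.eq_or_eq_of_φ (F.P.mul_mem (F.lift_mem g0) (F.lift_mem k))
        (F.P.mul_mem hm (F.lift_mem k)) e1.symm with e2 | e2
      · exact ⟨qact k w, by rw [e0, mul_right_cancel e2]⟩
      · refine ⟨flipz true (qact k w), ?_⟩
        rw [← mul_assoc] at e2
        rw [e0, mul_right_cancel e2, ← F.q_tpow]
        simp [tpow]
    have hs : sqTw w' g0 = z0 := by
      refine F.q_inj ?_
      rw [← F.sq_coord hT w' (mem_invols.2 ⟨g0_facts.1, g0_facts.2.1⟩), ← e, F.q_z0]
      calc _ = F.lift k * (F.q w * F.lift g * (F.q w * F.lift g)) * (F.lift k)⁻¹ := by group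
        _ = 1 := by rw [hx]; group
    have := F.kill_outside hT w' (countG w' (mem_allZ _) hs)
    rwa [← e, rootCount_conj, rootComm_conj _ _ (F.t_comm _).symm] at this
where
  mem_allV (v : V) : v ∈ allV := by revert v; decide +kernel
  inside_dot (w : Z) : sqTw w mid = z0 → dot w.2.1 w.2.2 = false := by revert w; decide +kernel

end Roots

end Frame

/-- A twisted frame does not occur in the centralizer of an involution of a simple group. -/
theorem not_twisted {G : Type u} [Group G] [Finite G] [IsSimpleGroup G] {t : G} (ht : orderOf t = 2)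
    (F : Frame ↥(Subgroup.centralizer ({t} : Set G))) (hFt : (F.t : G) = t) : ¬ F.Twisted := by
  intro hT
  have htt : t * t = 1 := by rw [← sq, ← ht]; exact pow_orderOf_eq_one t
  have hiso : Cfsg.IsIsolatedInvolution t := by
    refine ⟨ht, fun g hg => by_contra fun hne => ?_⟩
    set x := g * t * g⁻¹ with hx
    set y := g⁻¹ * t * g with hy
    have hxt : x * t = t * x := hg.symm.eq
    have hyt : y * t = t * y := by
      rw [hy]
      calc g⁻¹ * t * g * t = g⁻¹ * (t * x) * g := by rw [hx]; group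
        _ = g⁻¹ * (x * t) * g := by rw [hxt]
        _ = t * (g⁻¹ * t * g) := by rw [hx]; group
    have hxn : x ≠ t := hne
    have hyn : y ≠ t := fun h => hne (by
      calc g * t * g⁻¹ = g * y * g⁻¹ := by rw [h]
        _ = t := by rw [hy]; group)
    have hsq : ∀ a : G, a * t * a⁻¹ * (a * t * a⁻¹) = 1 := fun a => by
      calc a * t * a⁻¹ * (a * t * a⁻¹) = a * (t * t) * a⁻¹ := by group
        _ = 1 := by rw [htt]; group
    have key : ∀ a : G, a * a = 1 → a ≠ 1 → a ≠ t → a * t = t * a →
        Nat.card {z : G // z * t = t * z ∧ z * a = a * z ∧ z * z = a} <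
          Nat.card {z : G // z * t = t * z ∧ z * a = a * z ∧ z * z = t} := by
      intro a ha ha1 hat hac
      have hmem : a ∈ Subgroup.centralizer ({t} : Set G) := Subgroup.mem_centralizer_singleton_iff.2 hac
      have := F.roots_lt hT (x := ⟨a, hmem⟩) (Subtype.ext ha) (fun h => ha1 (congrArg Subtype.val h))
        (fun h => hat ((congrArg Subtype.val h).trans hFt))
      refine lt_of_eq_of_lt (Nat.card_congr ?_) (lt_of_lt_of_eq this (Nat.card_congr ?_))
      · exact
          { toFun := fun z => ⟨⟨z.1, Subgroup.mem_centralizer_singleton_iff.2 z.2.1⟩, Subtype.ext z.2.2.2⟩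
            invFun := fun z => ⟨z.1.1, Subgroup.mem_centralizer_singleton_iff.1 z.1.2, by
              have h := congrArg Subtype.val z.2
              simp only [Subgroup.coe_mul] at h
              refine ⟨?_, h⟩
              exact (congrArg (z.1.1 * ·) h).symm.trans
                ((mul_assoc _ _ _).symm.trans (congrArg (· * z.1.1) h))⟩
            left_inv := fun z => rfl
            right_inv := fun z => rfl }
      · exact
          { toFun := fun z => ⟨z.1.1, Subgroup.mem_centralizer_singleton_iff.1 z.1.2,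
              congrArg Subtype.val z.2.2, (congrArg Subtype.val z.2.1).trans hFt⟩
            invFun := fun z => ⟨⟨z.1, Subgroup.mem_centralizer_singleton_iff.2 z.2.1⟩,
              Subtype.ext (z.2.2.2.trans hFt.symm), Subtype.ext z.2.2.1⟩
            left_inv := fun z => rfl
            right_inv := fun z => rfl }
    have hne1 : ∀ a : G, a * t * a⁻¹ ≠ 1 := fun a h => by
      have h' : t = 1 := by
        calc t = a⁻¹ * (a * t * a⁻¹) * a := by group
          _ = 1 := by rw [h, mul_one, inv_mul_cancel]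
      rw [h', orderOf_one] at ht
      norm_num at ht
    have hk1 := key x (hsq g) (hne1 g) hxn hxt
    have hy' : y = g⁻¹ * t * g⁻¹⁻¹ := by rw [inv_inv]
    have hk2 := key y (hy' ▸ hsq g⁻¹) (hy' ▸ hne1 g⁻¹) hyn hyt
    have conv : ∀ a b a' b' : G, g * a * g⁻¹ = a' → g * b * g⁻¹ = b' →
        Nat.card {z : G // z * a = a * z ∧ z * b = b * z ∧ z * z = a} =
          Nat.card {z : G // z * a' = a' * z ∧ z * b' = b' * z ∧ z * z = a'} := by
      intro a b a' b' h1 h2
      subst h1; subst h2
      refine Nat.card_congr ((MulAut.conj g).toEquiv.subtypeEquiv fun z => ?_)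
      show _ ↔ (g * z * g⁻¹ * (g * a * g⁻¹) = g * a * g⁻¹ * (g * z * g⁻¹) ∧
        g * z * g⁻¹ * (g * b * g⁻¹) = g * b * g⁻¹ * (g * z * g⁻¹) ∧ g * z * g⁻¹ * (g * z * g⁻¹) = g * a * g⁻¹)
      have e : ∀ r s : G, g * r * g⁻¹ * (g * s * g⁻¹) = g * (r * s) * g⁻¹ := fun r s => by group
      simp only [e, mul_left_inj, mul_right_inj]
    have hgy : g * y * g⁻¹ = t := by rw [hy]; group
    have hgt : g * t * g⁻¹ = x := rfl
    have e1 : Nat.card {z : G // z * t = t * z ∧ z * y = y * z ∧ z * z = y} =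
        Nat.card {z : G // z * t = t * z ∧ z * x = x * z ∧ z * z = t} := by
      refine ((Nat.card_congr (Equiv.subtypeEquivRight fun z => and_left_comm)).trans
        (conv y t t x hgy hgt)).trans (Nat.card_congr (Equiv.subtypeEquivRight fun z => Iff.rfl))
    have e2 : Nat.card {z : G // z * t = t * z ∧ z * y = y * z ∧ z * z = t} =
        Nat.card {z : G // z * t = t * z ∧ z * x = x * z ∧ z * z = x} :=
      (conv t y x t hgt hgy).trans (Nat.card_congr (Equiv.subtypeEquivRight fun z => and_left_comm))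
    rw [e1, e2] at hk2
    exact lt_asymm hk1 hk2
  obtain ⟨N, hN, hodd, hcomm⟩ := ZStar.zstar hiso
  rcases hN.eq_bot_or_eq_top with rfl | rfl
  · have hc : t ∈ Subgroup.center G := Subgroup.mem_center_iff.2 fun g => by
      have h := Subgroup.mem_bot.1 (hcomm g)
      rw [mul_inv_eq_one, mul_inv_eq_iff_eq_mul] at h
      exact h.symm
    rcases (inferInstance : (Subgroup.center G).Normal).eq_bot_or_eq_top with h | h
    · rw [h, Subgroup.mem_bot] at hc
      rw [hc, orderOf_one] at ht
      norm_num at ht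
    · have hab : ∀ a b : G, a * b = b * a := fun a b =>
        (Subgroup.mem_center_iff.1 (h ▸ Subgroup.mem_top a) b).symm
      have h1 := F.comm u1 u1
      rw [show F.B u1 * F.A u1 = F.A u1 * F.B u1 from Subtype.ext (hab _ _),
        show dot u1 u1 = true from rfl] at h1
      exact F.t_ne (by simpa [tpow] using h1)
  · rw [Subgroup.card_top] at hodd
    have h2 : 2 ∣ Nat.card G := ht ▸ orderOf_dvd_natCard t
    exact (Nat.not_even_iff_odd.2 hodd) (even_iff_two_dvd.2 h2)

end CfsgLib.HeldC
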