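import Cfsg.Agent.HeldU.Frame.Kill

/-!
An untwisted frame splits: the double cover of `L3(2)` has a complement, by transfer to a Sylow
subgroup `2 × D8`.
-/

set_option autoImplicit false
set_option linter.unusedSectionVars false
set_option maxRecDepth 4000
set_option synthInstance.maxSize 2000

namespace CfsgLib.HeldC

universe u

variable {C : Type u} [Group C]

/-- The eight matrices `r^i a^j` for the dihedral generators. -/
def dihMat : Fin 4 × Bool → M
  | (i, j) => mm ([mid, mm a0 b0, mm (mm a0 b0) (mm a0 b0),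
      mm (mm (mm a0 b0) (mm a0 b0)) (mm a0 b0)].getD i.val mid) (if j then a0 else mid)

theorem dihMat_injective : Function.Injective dihMat := by
  unfold Function.Injective; decide +kernel

namespace Frame

variable (F : Frame C)

theorem sq_conj_eq {p : C} (hp : p ∈ F.P) (h2 : mm (F.φ p) (F.φ p) = mid) (h1 : F.φ p ≠ mid) :
    p * p = F.lift g0 * F.lift g0 := by
  have hd := F.det_φ p hp
  obtain ⟨k, -, hk, hkg⟩ := conj_involution _ (mem_invols.2 ⟨hd, h2⟩) h1
  set l := F.lift k with hl
  set r := F.lift g0 with hr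
  have hlm : l ∈ F.P := F.lift_mem k
  have hrm : r ∈ F.P := F.lift_mem g0
  have hsq : p * p = 1 ∨ p * p = F.t := F.ker _ (F.P.mul_mem hp hp) (by rw [F.φ_mul hp hp, h2])
  have hc : l * (p * p) = p * p * l := by
    rcases hsq with e | e <;> rw [e]
    · simp
    · exact (F.t_comm l).symm
  have e1 : F.φ (r * l) = F.φ (l * p) := by
    rw [F.φ_mul hrm hlm, F.φ_mul hlm hp, hr, hl, F.φ_lift g0_facts.1, F.φ_lift hk, hkg]
  rcases F.eq_or_eq_of_φ (F.P.mul_mem hrm hlm) (F.P.mul_mem hlm hp) e1 with e | e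
  · refine mul_left_cancel (a := l) ?_
    calc l * (p * p) = r * (l * p) := by rw [← mul_assoc, e, mul_assoc]; rw [e]
      _ = r * r * l := by rw [e, mul_assoc]
      _ = l * (r * r) := by
        rcases F.ker _ (F.P.mul_mem hrm hrm) (by
          rw [F.φ_mul hrm hrm, hr, F.φ_lift g0_facts.1, g0_facts.2.1]) with q | q <;> rw [q]
        · simp
        · exact F.t_comm l
  · refine mul_left_cancel (a := l) ?_
    calc l * (p * p) = F.t * r * (l * p) := by rw [← mul_assoc l, e]; simp only [mul_assoc]; rw [e]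
      _ = F.t * r * (F.t * (r * l)) := by rw [e]
      _ = F.t * (r * F.t) * (r * l) := by group
      _ = F.t * F.t * (r * r * l) := by rw [← F.t_comm r]; group
      _ = r * r * l := by rw [F.t_sq, one_mul]
      _ = l * (r * r) := by
        rcases F.ker _ (F.P.mul_mem hrm hrm) (by
          rw [F.φ_mul hrm hrm, hr, F.φ_lift g0_facts.1, g0_facts.2.1]) with q | q <;> rw [q]
        · simp
        · exact F.t_comm l

variable [Finite C]

/-- An untwisted frame has a complement in the double cover. -/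
theorem exists_section (hU : ¬ F.Twisted) :
    ∃ s : M → C, (∀ g, det g = true → s g ∈ F.P ∧ F.φ (s g) = g) ∧
      ∀ g h, det g = true → det h = true → s (mm g h) = s g * s h := by
  classical
  have hinv : ∀ p ∈ F.P, mm (F.φ p) (F.φ p) = mid → F.φ p ≠ mid → p * p = 1 := by
    simp only [Twisted, not_forall] at hU
    obtain ⟨p₀, hp₀, h2, h1, hne⟩ := hU
    have h00 : p₀ * p₀ = 1 := (F.ker _ (F.P.mul_mem hp₀ hp₀) (by
      rw [F.φ_mul hp₀ hp₀, h2])).resolve_right hne
    intro p hp q2 q1
    rw [F.sq_conj_eq hp q2 q1, ← F.sq_conj_eq hp₀ h2 h1, h00]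
  obtain ⟨fa2, fb2, fa1, fb1, hda, hdb, fr1, fr2, fr4, -, -, -, -⟩ := dihedral_facts
  set a := F.lift a0 with ha
  set b := F.lift b0 with hb
  have ham : a ∈ F.P := F.lift_mem a0
  have hbm : b ∈ F.P := F.lift_mem b0
  have hφa : F.φ a = a0 := F.φ_lift hda
  have hφb : F.φ b = b0 := F.φ_lift hdb
  have haa : a * a = 1 := hinv a ham (by rw [hφa]; exact fa2) (by rw [hφa]; exact fa1)
  have hbb : b * b = 1 := hinv b hbm (by rw [hφb]; exact fb2) (by rw [hφb]; exact fb1)
  set r := a * b with hr
  have hrm : r ∈ F.P := F.P.mul_mem ham hbm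
  have hφr : F.φ r = mm a0 b0 := by rw [hr, F.φ_mul ham hbm, hφa, hφb]
  have hr4 : r ^ 4 = 1 := by
    have hrr := F.P.mul_mem hrm hrm
    have := hinv (r * r) hrr (by rw [F.φ_mul hrm hrm, hφr]; exact fr4)
      (by rw [F.φ_mul hrm hrm, hφr]; exact fr2)
    rw [← this, show (4 : ℕ) = 2 + 2 from rfl, pow_add, sq]
  have hai : a⁻¹ = a := inv_eq_of_mul_eq_one_right haa
  have hbi : b⁻¹ = b := inv_eq_of_mul_eq_one_right hbb
  have hara : a * r * a⁻¹ = r⁻¹ := by
    rw [hr, mul_inv_rev, hai, hbi, ← mul_assoc, haa, one_mul]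
  have harj : ∀ j : ℤ, a * r ^ j = r ^ (-j) * a := fun j => by
    rw [zpow_neg, ← inv_zpow, ← hara, conj_zpow, inv_mul_cancel_right]
  -- the dihedral subgroup, inside `P`
  let K : Subgroup C :=
    { carrier := {x | ∃ i : ℤ, x = r ^ i ∨ x = r ^ i * a}
      one_mem' := ⟨0, Or.inl (zpow_zero r).symm⟩
      mul_mem' := by
        rintro x y ⟨i, rfl | rfl⟩ ⟨j, rfl | rfl⟩
        · exact ⟨i + j, Or.inl (zpow_add r i j).symm⟩
        · exact ⟨i + j, Or.inr (by rw [← mul_assoc, ← zpow_add])⟩
        · exact ⟨i + -j, Or.inr (by rw [mul_assoc, harj, ← mul_assoc, ← zpow_add])⟩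
        · exact ⟨i + -j, Or.inl (by
            rw [← mul_assoc (r ^ i * a), mul_assoc (r ^ i) a, harj, mul_assoc, mul_assoc, haa, mul_one,
              ← zpow_add])⟩
      inv_mem' := by
        rintro x ⟨i, rfl | rfl⟩
        · exact ⟨-i, Or.inl (zpow_neg r i).symm⟩
        · exact ⟨i, Or.inr (by rw [mul_inv_rev, hai, ← zpow_neg, harj, neg_neg])⟩ }
  have hKrep : ∀ x ∈ K, ∃ d : Fin 4 × Bool, x = r ^ d.1.val * (if d.2 then a else 1) := by
    intro x hx
    obtain ⟨i, hi⟩ := hx
    have hlt : (i % 4).toNat < 4 := by omega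
    have e : r ^ i = r ^ (i % 4).toNat := by
      rw [← zpow_natCast, Int.toNat_of_nonneg (Int.emod_nonneg _ (by norm_num))]
      exact zpow_eq_zpow_emod' i hr4
    rcases hi with rfl | rfl
    · exact ⟨(⟨_, hlt⟩, false), by simp [e]⟩
    · exact ⟨(⟨_, hlt⟩, true), by simp [e]⟩
  have hφK : ∀ d : Fin 4 × Bool, r ^ d.1.val * (if d.2 then a else 1) ∈ F.P ∧
      F.φ (r ^ d.1.val * (if d.2 then a else 1)) = dihMat d := by
    rintro ⟨i, j⟩
    have hm : (if j then a else 1) ∈ F.P := by
      cases j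
      · exact F.P.one_mem
      · exact ham
    refine ⟨F.P.mul_mem (F.P.pow_mem hrm _) hm, ?_⟩
    have hj : F.φ (if j then a else 1) = if j then a0 else mid := by
      cases j
      · simp [F.φ_one]
      · simp [hφa]
    rw [F.φ_mul (F.P.pow_mem hrm _) hm, hj]
    congr 1
    fin_cases i
    · simp [F.φ_one]
    · simp [hφr]
    · simp [pow_two, F.φ_mul hrm hrm, hφr]
    · simp [pow_succ, F.φ_mul hrm hrm, F.φ_mul (F.P.mul_mem hrm hrm) hrm, hφr]
  have htK : F.t ∉ K := by
    intro h
    obtain ⟨d, hd⟩ := hKrep _ h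
    have h1 : dihMat d = dihMat (0, false) := by
      rw [← (hφK d).2, ← hd, F.φ_t]; decide
    have := dihMat_injective h1
    subst this
    exact F.t_ne (by rw [hd]; simp)
  have hKP : ∀ x ∈ K, x ∈ F.P := fun x hx => by
    obtain ⟨d, rfl⟩ := hKrep x hx
    exact (hφK d).1
  -- the Sylow subgroup
  let S : Subgroup F.P :=
    { carrier := {x | (x : C) ∈ K ∨ F.t * (x : C) ∈ K}
      one_mem' := Or.inl K.one_mem
      mul_mem' := by
        rintro x y (hx | hx) (hy | hy)
        · exact Or.inl (K.mul_mem hx hy)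
        · refine Or.inr ?_
          have := K.mul_mem hx hy
          rwa [← mul_assoc, ← F.t_comm (x : C), mul_assoc] at this
        · refine Or.inr ?_
          have := K.mul_mem hx hy
          rwa [mul_assoc] at this
        · refine Or.inl ?_
          have := K.mul_mem hx hy
          rw [← mul_assoc, mul_assoc F.t, ← F.t_comm (x : C), ← mul_assoc, F.t_sq, one_mul] at this
          exact this
      inv_mem' := by
        rintro x (hx | hx)
        · exact Or.inl (K.inv_mem hx)
        · refine Or.inr ?_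
          have := K.inv_mem hx
          rw [mul_inv_rev, inv_eq_of_mul_eq_one_right F.t_sq, ← F.t_comm] at this
          exact this }
  have hSiff : ∀ x : S, ((x : F.P) : C) ∈ K ∨ F.t * ((x : F.P) : C) ∈ K := fun x => x.2
  let ϕ : S →* Multiplicative (ZMod 2) :=
    { toFun := fun x => if ((x : F.P) : C) ∈ K then 1 else Multiplicative.ofAdd 1
      map_one' := if_pos K.one_mem
      map_mul' := fun x y => by
        show (if (x : F.P).1 * (y : F.P).1 ∈ K then (1 : Multiplicative (ZMod 2)) else _) = _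
        by_cases hx : (x : F.P).1 ∈ K <;> by_cases hy : (y : F.P).1 ∈ K
        · rw [if_pos (K.mul_mem hx hy), if_pos hx, if_pos hy, one_mul]
        · rw [if_neg (fun h => hy ((K.mul_mem_cancel_left hx).1 h)), if_pos hx, if_neg hy, one_mul]
        · rw [if_neg (fun h => hx ((K.mul_mem_cancel_right hy).1 h)), if_neg hx, if_pos hy, mul_one]
        · have hx' := (hSiff x).resolve_left hx
          have hy' := (hSiff y).resolve_left hy
          have := K.mul_mem hx' hy'
          rw [← mul_assoc, mul_assoc F.t, ← F.t_comm (x : F.P).1, ← mul_assoc, F.t_sq, one_mul] at this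
          rw [if_pos this, if_neg hx, if_neg hy]
          rfl }
  have hcardP : Nat.card F.P = 2 * 168 := by
    let f : Bool × {g : M // det g = true} → F.P := fun z =>
      ⟨tpow F.t z.1 * F.lift z.2.1, F.P.mul_mem (by cases z.1 <;> simp [tpow, F.P.one_mem, F.t_mem]) (F.lift_mem _)⟩
    have hb : Function.Bijective f := by
      constructor
      · intro z w h
        have h' : F.q (z.1, v0, v0) * F.lift z.2.1 = F.q (w.1, v0, v0) * F.lift w.2.1 := by
          simpa [q, f, F.A_v0, F.B_v0] using h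
        obtain ⟨h1, h2⟩ := F.coord_inj z.2.2 w.2.2 h'
        exact Prod.ext (congrArg Prod.fst h1 : _) (Subtype.ext h2)
      · rintro ⟨p, hp⟩
        rcases F.eq_or_eq_of_φ (F.lift_mem (F.φ p)) hp (by rw [F.φ_lift (F.det_φ p hp)]) with e | e
        · exact ⟨(false, ⟨_, F.det_φ p hp⟩), Subtype.ext (by simp [f, tpow, ← e])⟩
        · exact ⟨(true, ⟨_, F.det_φ p hp⟩), Subtype.ext (by simp [f, tpow, ← e])⟩
    rw [← Nat.card_eq_of_bijective f hb, Nat.card_prod, Nat.card_eq_fintype_card (α := Bool),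
      Fintype.card_bool, Nat.card_eq_fintype_card,
      Fintype.card_of_subtype (allM.filter det).toFinset fun g => by simp [mem_allM g],
      List.toFinset_card_of_nodup (allM_nodup.filter _), card_det]
  have hcardS : Nat.card S = 2 * 8 := by
    let k : Fin 4 × Bool → C := fun d => r ^ d.1.val * (if d.2 then a else 1)
    have hk : ∀ d, k d ∈ K := by
      rintro ⟨i, j⟩
      refine ⟨i.val, ?_⟩
      cases j
      · exact Or.inl (by simp [k])
      · exact Or.inr (by simp [k])
    let f : Bool × (Fin 4 × Bool) → S := fun z =>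
      ⟨⟨tpow F.t z.1 * k z.2, F.P.mul_mem (by cases z.1 <;> simp [tpow, F.P.one_mem, F.t_mem]) (hKP _ (hk _))⟩,
        by
          cases h : z.1
          · exact Or.inl (by simpa [tpow] using hk z.2)
          · exact Or.inr (by simpa [tpow, ← mul_assoc, F.t_sq] using hk z.2)⟩
    have hb : Function.Bijective f := by
      constructor
      · intro z w h
        have h' : tpow F.t z.1 * k z.2 = tpow F.t w.1 * k w.2 := congrArg (fun x : S => ((x : F.P) : C)) h
        have ht : ∀ e, tpow F.t e ∈ F.P ∧ F.φ (tpow F.t e) = mid := fun e => by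
          cases e
          · exact ⟨F.P.one_mem, F.φ_one⟩
          · exact ⟨F.t_mem, F.φ_t⟩
        have h2 : z.2 = w.2 := dihMat_injective (by
          have := congrArg F.φ h'
          rw [F.φ_mul (ht _).1 (hKP _ (hk _)), F.φ_mul (ht _).1 (hKP _ (hk _)), (ht _).2, (ht _).2,
            mid_mm, mid_mm] at this
          rwa [(hφK _).2, (hφK _).2] at this)
        rw [h2] at h'
        have h3 := mul_right_cancel h'
        refine Prod.ext ?_ h2
        cases hz : z.1 <;> cases hw : w.1 <;> simp_all [tpow, F.t_ne, F.t_ne.symm]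
      · rintro ⟨⟨x, hx⟩, h | h⟩
        · obtain ⟨d, hd⟩ := hKrep x h
          exact ⟨(false, d), Subtype.ext (Subtype.ext (by simp [f, k, tpow, hd]))⟩
        · obtain ⟨d, hd⟩ := hKrep _ h
          refine ⟨(true, d), Subtype.ext (Subtype.ext ?_)⟩
          show tpow F.t true * (r ^ d.1.val * _) = x
          rw [← hd]
          simp [tpow, ← mul_assoc, F.t_sq]
    rw [← Nat.card_eq_of_bijective f hb, Nat.card_prod, Nat.card_prod, Nat.card_eq_fintype_card (α := Bool),
      Fintype.card_bool, Nat.card_fin]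
  have hidx : S.index = 21 := by
    have := S.index_mul_card
    rw [hcardS, hcardP] at this
    omega
  let tP : F.P := ⟨F.t, F.t_mem⟩
  have hkey : ∀ (n : ℕ) (g₀ : F.P), g₀⁻¹ * tP ^ n * g₀ ∈ S → g₀⁻¹ * tP ^ n * g₀ = tP ^ n :=
    fun n g₀ _ => by
      have hc : Commute tP g₀ := Subtype.ext (F.t_comm _)
      rw [mul_assoc, (hc.pow_left n).eq, inv_mul_cancel_left]
  have htau : MonoidHom.transfer ϕ tP = Multiplicative.ofAdd 1 := by
    rw [MonoidHom.transfer_eq_pow ϕ tP hkey]
    refine if_neg ?_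
    show (↑(tP ^ S.index) : C) ∉ K
    rw [hidx, SubmonoidClass.coe_pow]
    have h21 : F.t ^ 21 = F.t := by
      rw [show 21 = 2 * 10 + 1 from rfl, pow_succ, pow_mul, sq, F.t_sq, one_pow, one_mul]
    rw [h21]
    exact htK
  set τ := MonoidHom.transfer ϕ
  let c : ∀ g, F.P := fun g =>
    if τ ⟨F.lift g, F.lift_mem g⟩ = 1 then ⟨F.lift g, F.lift_mem g⟩ else tP * ⟨F.lift g, F.lift_mem g⟩
  have hτ : ∀ g, τ (c g) = 1 := fun g => by
    simp only [c]
    split
    next h => exact h
    next h =>
      rw [map_mul, htau]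
      revert h
      generalize τ ⟨F.lift g, F.lift_mem g⟩ = x
      revert x
      decide
  have hφc : ∀ g, det g = true → F.φ (c g).1 = g := fun g hg => by
    simp only [c]
    split
    · exact F.φ_lift hg
    · show F.φ (F.t * F.lift g) = g
      rw [F.φ_mul F.t_mem (F.lift_mem g), F.φ_t, mid_mm, F.φ_lift hg]
  refine ⟨fun g => (c g).1, fun g hg => ⟨(c g).2, hφc g hg⟩, fun g h hg hh => ?_⟩
  have he : F.φ (c (mm g h)).1 = F.φ ((c g).1 * (c h).1) := by
    rw [F.φ_mul (c g).2 (c h).2, hφc g hg, hφc h hh, hφc _ (F.lift_mul hg hh).1]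
  rcases F.eq_or_eq_of_φ (F.P.mul_mem (c g).2 (c h).2) (c (mm g h)).2 he.symm with e | e
  · exact e
  · exfalso
    have : τ (c (mm g h)) = τ tP * (τ (c g) * τ (c h)) := by
      rw [← map_mul, ← map_mul]
      exact congrArg τ (Subtype.ext e)
    rw [hτ, hτ, hτ, htau, one_mul, mul_one] at this
    exact absurd this (by decide)

end Frame

end CfsgLib.HeldC
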