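import Mathlib

/-!
Finite tables for the involution centralizer `2^(1+6):L3(2)` of the Held group: vectors of length
three over two elements as triples of Booleans, matrices by columns, the product on the
extraspecial group of order `2^7` in coordinates, and the counts of square roots which exclude
the twisted extension.
-/

set_option autoImplicit false
set_option maxRecDepth 4000
set_option synthInstance.maxSize 2000

namespace CfsgLib.HeldC

/-- Vectors of length three over two elements. -/
abbrev V := Bool × Bool × Bool

/-- Matrices given by their three columns. -/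
abbrev M := V × V × V

/-- Coordinates on the extraspecial group. -/
abbrev Z := Bool × V × V

/-- The sum of two vectors. -/
def vadd : V → V → V
  | (a, b, c), (a', b', c') => (a ^^ a', b ^^ b', c ^^ c')

/-- The zero vector. -/
def v0 : V := (false, false, false)

/-- First unit vector. -/
def u1 : V := (true, false, false)

/-- Second unit vector. -/
def u2 : V := (false, true, false)

/-- Third unit vector. -/
def u3 : V := (false, false, true)

/-- The inner product. -/
def dot : V → V → Bool
  | (a, b, c), (a', b', c') => (a && a') ^^ (b && b') ^^ (c && c')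

/-- A vector or zero. -/
def sel (b : Bool) (v : V) : V := if b then v else v0

/-- A matrix applied to a vector. -/
def mv : M → V → V
  | (c1, c2, c3), (a, b, c) => vadd (sel a c1) (vadd (sel b c2) (sel c c3))

/-- The product of two matrices. -/
def mm (A B : M) : M := (mv A B.1, mv A B.2.1, mv A B.2.2)

/-- The identity matrix. -/
def mid : M := (u1, u2, u3)

/-- The cross product. -/
def cross : V → V → V
  | (a, b, c), (a', b', c') =>
    ((b && c') ^^ (c && b'), (c && a') ^^ (a && c'), (a && b') ^^ (b && a'))

/-- The inverse transpose of a matrix of determinant one. -/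
def dual : M → M
  | (c1, c2, c3) => (cross c2 c3, cross c3 c1, cross c1 c2)

/-- The determinant. -/
def det : M → Bool
  | (c1, c2, c3) => dot c1 (cross c2 c3)

/-- The zero element in coordinates. -/
def z0 : Z := (false, v0, v0)

/-- The central involution in coordinates. -/
def zt : Z := (true, v0, v0)

/-- The product in the extraspecial group. -/
def qm : Z → Z → Z
  | (e, u, v), (f, u', v') => (e ^^ f ^^ dot u' v, vadd u u', vadd v v')

/-- The action of a matrix. -/
def qact (g : M) : Z → Z
  | (e, u, v) => (e, mv g u, mv (dual g) v)

/-- Flip the central coordinate. -/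
def flipz (b : Bool) : Z → Z
  | (e, u, v) => (e ^^ b, u, v)

/-- The square of an element over an involution or the identity, in the twisted extension. -/
def sqTw (z : Z) (h : M) : Z := flipz (decide (h ≠ mid)) (qm z (qact h z))

/-- All vectors. -/
def allV : List V :=
  [(false, false, false), (true, false, false), (false, true, false), (true, true, false),
   (false, false, true), (true, false, true), (false, true, true), (true, true, true)]

/-- All coordinates. -/
def allZ : List Z :=
  [false, true].flatMap fun e => allV.flatMap fun u => allV.map fun v => (e, u, v)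

/-- All matrices. -/
def allM : List M := allV.flatMap fun a => allV.flatMap fun b => allV.map fun c => (a, b, c)

/-- The invertible matrices of square one, as literals. -/
def invols : List M :=
  allM.filter fun h => det h && decide (mm h h = mid)

/-- The reference involution. -/
def g0 : M := (u1, (true, true, false), u3)

/-- The two invertible matrices of square `g0`, as a filter. -/
def roots0 : List M := allM.filter fun h => det h && decide (mm h h = g0)

/-- The involutions and identity commuting with `g0`. -/
def comm0 : List M := invols.filter fun h => decide (mm h g0 = mm g0 h)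

/-- Square roots of the centre commuting with `w`, inside. -/
def lowQ (w : Z) : ℕ :=
  (invols.map fun h => allZ.countP fun z =>
    decide (sqTw z h = zt) && decide (qm z (qact h w) = qm w z)).sum

/-- Square roots of `w`, inside. -/
def upQ (w : Z) : ℕ :=
  (invols.map fun h => allZ.countP fun z => decide (sqTw z h = w)).sum

/-- Square roots of the centre commuting with `w` over `g0`. -/
def lowG (w : Z) : ℕ :=
  (comm0.map fun h => allZ.countP fun z =>
    decide (sqTw z h = zt) &&
      decide (flipz (decide (h ≠ mid) && decide (h ≠ g0)) (qm z (qact h w)) = qm w (qact g0 z))).sum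

/-- An upper bound for the square roots of `w` over `g0`. -/
def upG (w : Z) : ℕ :=
  (roots0.map fun h => allZ.countP fun z => decide ((qm z (qact h z)).2 = w.2)).sum

theorem allZ_nodup : allZ.Nodup := by decide +kernel

theorem mem_allZ : ∀ z : Z, z ∈ allZ := by decide +kernel

theorem allM_nodup : allM.Nodup := by decide +kernel

theorem mem_allM : ∀ g : M, g ∈ allM := by decide +kernel

theorem card_det : (allM.filter det).length = 168 := by decide +kernel

theorem vadd_comm : ∀ u v : V, vadd u v = vadd v u := by decide +kernel

theorem vadd_assoc : ∀ u v w : V, vadd (vadd u v) w = vadd u (vadd v w) := by decide +kernel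

theorem vadd_v0 : ∀ v : V, vadd v v0 = v ∧ vadd v0 v = v ∧ vadd v v = v0 := by decide +kernel

theorem mv_vadd : ∀ g : M, ∀ u v : V, mv g (vadd u v) = vadd (mv g u) (mv g v) := by decide +kernel

theorem mv_mid : ∀ v : V, mv mid v = v := by decide +kernel

theorem mv_unit : ∀ g : M, mv g u1 = g.1 ∧ mv g u2 = g.2.1 ∧ mv g u3 = g.2.2 := by decide +kernel

theorem dot_ext : ∀ v w : V, (∀ u, dot u v = dot u w) → v = w := by decide +kernel

theorem det_of_inj : ∀ g : M, (∀ v, mv g v = v0 → v = v0) → det g = true := by decide +kernel

theorem dot_dual : ∀ g : M, det g = true → ∀ u v, dot (mv g u) (mv (dual g) v) = dot u v := by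
  decide +kernel

theorem inj_of_det : ∀ g : M, det g = true → ∀ v, mv g v = v0 → v = v0 := by decide +kernel

theorem unit_cases : ∀ v : V, v = v0 ∨ v = u1 ∨ v = u2 ∨ v = u3 ∨ v = vadd u1 u2 ∨ v = vadd u1 u3 ∨
    v = vadd u2 u3 ∨ v = vadd u1 (vadd u2 u3) := by decide +kernel

theorem conj_involution : ∀ g ∈ invols, g ≠ mid →
    ∃ k ∈ allM, det k = true ∧ mm k g = mm g0 k := by decide +kernel

theorem conj_pair : ∀ u ∈ allV, ∀ v ∈ allV, dot u v = false → (u, v) ≠ (v0, v0) →
    ∃ g ∈ allM, det g = true ∧
      (mv g u, mv (dual g) v) ∈ [(u1, v0), (v0, u1), (u1, u2)] := by decide +kernel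

theorem countQ : ∀ e ∈ [false, true], ∀ p ∈ [(u1, v0), (v0, u1), (u1, u2)],
    upQ (e, p.1, p.2) < lowQ (e, p.1, p.2) := by decide +kernel

theorem countG : ∀ w ∈ allZ, sqTw w g0 = z0 → upG w < lowG w := by decide +kernel

/-- First generator of a dihedral subgroup of order eight. -/
def a0 : M := (u1, (true, true, false), u3)

/-- Second generator of a dihedral subgroup of order eight. -/
def b0 : M := (u1, u2, (false, true, true))

theorem dihedral_facts : mm a0 a0 = mid ∧ mm b0 b0 = mid ∧ a0 ≠ mid ∧ b0 ≠ mid ∧
    det a0 = true ∧ det b0 = true ∧
    mm a0 b0 ≠ mid ∧ mm (mm a0 b0) (mm a0 b0) ≠ mid ∧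
    mm (mm (mm a0 b0) (mm a0 b0)) (mm (mm a0 b0) (mm a0 b0)) = mid ∧
    mm (mm (mm a0 b0) (mm a0 b0)) (mm a0 b0) ≠ mid ∧
    mm (mm a0 b0) a0 ≠ mid ∧ mm (mm (mm a0 b0) (mm a0 b0)) a0 ≠ mid ∧
    mm (mm (mm (mm a0 b0) (mm a0 b0)) (mm a0 b0)) a0 ≠ mid := by decide +kernel

end CfsgLib.HeldC
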