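import Cfsg.Agent.HeldU.Frame.Build
import Cfsg.Agent.HeldU.Frame.Split
import Cfsg.Agent.HeldUniq.Model
import Mathlib.LinearAlgebra.Matrix.SpecialLinearGroup
import Cfsg.Prelude.Def_Transfer

/-!
The centralizer of the involution in a group of Held type is the model.
-/

set_option autoImplicit false
set_option linter.unusedSectionVars false
set_option maxRecDepth 4000
set_option synthInstance.maxSize 2000

namespace CfsgLib.HeldC

open CfsgLib.HeldUniq

universe u

/-- The vector of three bits. -/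
def decV (n : ℕ) : V := (n.testBit 0, n.testBit 1, n.testBit 2)

/-- The code of a vector. -/
def encV : V → ℕ
  | (a, b, c) => (if a then 1 else 0) + (if b then 2 else 0) + (if c then 4 else 0)

/-- The matrix of nine bits. -/
def decM (g : ℕ) : M := (decV (Mdl.col g 0), decV (Mdl.col g 1), decV (Mdl.col g 2))

/-- The code of a matrix. -/
def encM : M → ℕ
  | (c1, c2, c3) => encV c1 + 8 * encV c2 + 64 * encV c3

/-- The transpose. -/
def trM : M → M
  | ((a, b, c), (d, e, f), (g, h, i)) => ((a, d, g), (b, e, h), (c, f, i))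

/-- The coordinates of a code. -/
def decZ (a : ℕ) : Z := (decide (Mdl.cOf a = 1), decV (Mdl.vOf a), decV (Mdl.pOf a))

theorem app_dec : ∀ g < 512, ∀ w < 8,
    Mdl.app g w < 8 ∧ decV (Mdl.app g w) = mv (decM g) (decV w) := by decide +kernel

theorem col_three : ∀ x < 8, ∀ y < 8, ∀ z < 8, Mdl.col (x + 8 * y + 64 * z) 0 = x ∧
    Mdl.col (x + 8 * y + 64 * z) 1 = y ∧ Mdl.col (x + 8 * y + 64 * z) 2 = z := by decide +kernel

theorem col_lt (g i : ℕ) : Mdl.col g i < 8 := Nat.lt_succ_of_le Nat.and_le_right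

theorem rapp_dot : ∀ h < 512, ∀ q < 8, Mdl.rapp q h < 8 ∧
    ∀ x : V, dot x (decV (Mdl.rapp q h)) = dot (mv (decM h) x) (decV q) := by decide +kernel

theorem dot_dec : ∀ p < 8, ∀ w < 8, Mdl.dot p w < 2 ∧
    decide (Mdl.dot p w = 1) = dot (decV w) (decV p) := by decide +kernel

theorem xor_dec : ∀ a < 8, ∀ b < 8, Nat.xor a b < 8 ∧ decV (Nat.xor a b) = vadd (decV a) (decV b) := by
  decide +kernel

theorem xor_bit : ∀ a < 2, ∀ b < 2, Nat.xor a b < 2 ∧
    decide (Nat.xor a b = 1) = (decide (a = 1) ^^ decide (b = 1)) := by decide +kernel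

theorem encV_dec : ∀ v : V, encV v < 8 ∧ decV (encV v) = v := by decide +kernel

theorem decV_inj : ∀ a < 8, ∀ b < 8, decV a = decV b → a = b := by decide +kernel

theorem enc_inverse : ∀ g ∈ allM, det g = true →
    Mdl.mmul (encM g) (encM (trM (dual g))) = Mdl.mone ∧
      Mdl.mmul (encM (trM (dual g))) (encM g) = Mdl.mone := by decide +kernel

theorem g_mid : decM Mdl.mone = mid := by decide +kernel

theorem land_seven (a : ℕ) : Nat.land a 7 = a % 8 := Nat.and_two_pow_sub_one_eq_mod a 3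

theorem vOf_eq (a : ℕ) : Mdl.vOf a = a % 8 := land_seven a

theorem pOf_eq (a : ℕ) : Mdl.pOf a = a / 8 % 8 := by
  show Nat.land (a >>> 3) 7 = _
  rw [land_seven, Nat.shiftRight_eq_div_pow]

theorem cOf_eq (a : ℕ) : Mdl.cOf a = a / 64 % 2 := by
  show (a >>> 6) &&& (2 ^ 1 - 1) = _
  rw [Nat.and_two_pow_sub_one_eq_mod, Nat.shiftRight_eq_div_pow]

theorem gOf_eq (a : ℕ) : Mdl.gOf a = a / 128 % 512 := by
  show (a >>> 7) &&& (2 ^ 9 - 1) = _
  rw [Nat.and_two_pow_sub_one_eq_mod, Nat.shiftRight_eq_div_pow]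

theorem hOf_eq (a : ℕ) : Mdl.hOf a = a / 65536 := Nat.shiftRight_eq_div_pow a 16

theorem of_mk {v p c g h : ℕ} (hv : v < 8) (hp : p < 8) (hc : c < 2) (hg : g < 512) :
    Mdl.vOf (Mdl.mk v p c g h) = v ∧ Mdl.pOf (Mdl.mk v p c g h) = p ∧
      Mdl.cOf (Mdl.mk v p c g h) = c ∧ Mdl.gOf (Mdl.mk v p c g h) = g ∧
      Mdl.hOf (Mdl.mk v p c g h) = h := by
  rw [vOf_eq, pOf_eq, cOf_eq, gOf_eq, hOf_eq, Mdl.mk]
  omega

theorem mmul_lt {g : ℕ} (hg : g < 512) (k : ℕ) : Mdl.mmul g k < 512 := by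
  have h0 := (app_dec g hg _ (col_lt k 0)).1
  have h1 := (app_dec g hg _ (col_lt k 1)).1
  have h2 := (app_dec g hg _ (col_lt k 2)).1
  rw [Mdl.mmul]
  omega

theorem decM_mmul {g : ℕ} (hg : g < 512) (k : ℕ) : decM (Mdl.mmul g k) = mm (decM g) (decM k) := by
  obtain ⟨b0, e0⟩ := app_dec g hg _ (col_lt k 0)
  obtain ⟨b1, e1⟩ := app_dec g hg _ (col_lt k 1)
  obtain ⟨b2, e2⟩ := app_dec g hg _ (col_lt k 2)
  obtain ⟨c0, c1, c2⟩ := col_three _ b0 _ b1 _ b2
  show (decV (Mdl.col _ 0), decV (Mdl.col _ 1), decV (Mdl.col _ 2)) = _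
  rw [Mdl.mmul, c0, c1, c2, e0, e1, e2]
  rfl

theorem decM_encM (g : M) : decM (encM g) = g ∧ encM g < 512 := by
  obtain ⟨a, b, c⟩ := g
  obtain ⟨ha, ea⟩ := encV_dec a
  obtain ⟨hb, eb⟩ := encV_dec b
  obtain ⟨hc, ec⟩ := encV_dec c
  obtain ⟨c0, c1, c2⟩ := col_three _ ha _ hb _ hc
  refine ⟨?_, ?_⟩
  · show (decV (Mdl.col _ 0), decV (Mdl.col _ 1), decV (Mdl.col _ 2)) = _
    rw [encM, c0, c1, c2, ea, eb, ec]
  · rw [encM]; omega

theorem decM_inj {g k : ℕ} (hg : g < 512) (hk : k < 512) (h : decM g = decM k) : g = k := by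
  have col0 : ∀ n, Mdl.col n 0 = n % 8 := fun n => land_seven n
  have col1 : ∀ n, Mdl.col n 1 = n / 8 % 8 := fun n => by
    show Nat.land (n >>> 3) 7 = _
    rw [land_seven, Nat.shiftRight_eq_div_pow]
  have col2 : ∀ n, Mdl.col n 2 = n / 64 % 8 := fun n => by
    show Nat.land (n >>> 6) 7 = _
    rw [land_seven, Nat.shiftRight_eq_div_pow]
  simp only [decM, Prod.mk.injEq] at h
  have e0 := decV_inj _ (col_lt g 0) _ (col_lt k 0) h.1
  have e1 := decV_inj _ (col_lt g 1) _ (col_lt k 1) h.2.1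
  have e2 := decV_inj _ (col_lt g 2) _ (col_lt k 2) h.2.2
  rw [col0, col0] at e0
  rw [col1, col1] at e1
  rw [col2, col2] at e2
  omega

theorem mv_v0 : ∀ g : M, mv g v0 = v0 := by decide +kernel

theorem mv_mm (g k : M) (v : V) : mv (mm g k) v = mv g (mv k v) := by
  obtain ⟨a1, a2, a3⟩ := mv_unit (mm g k)
  obtain ⟨b1, b2, b3⟩ := mv_unit k
  rcases unit_cases v with h | h | h | h | h | h | h | h <;> subst h <;>
    simp only [mv_vadd, a1, a2, a3, b1, b2, b3, mv_v0] <;> simp only [mm, mv_vadd]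

/-- What a code of the model gives. -/
theorem mem_spec {a : ℕ} (h : Mdl.mem a = true) :
    a < 2 ^ 25 ∧ Mdl.gOf a < 512 ∧ Mdl.hOf a < 512 ∧ det (decM (Mdl.gOf a)) = true ∧
      mm (decM (Mdl.gOf a)) (decM (Mdl.hOf a)) = mid ∧
      mm (decM (Mdl.hOf a)) (decM (Mdl.gOf a)) = mid := by
  simp only [Mdl.mem, Bool.and_eq_true] at h
  obtain ⟨⟨h1, h2⟩, h3⟩ := h
  have ha : a < 2 ^ 25 := Nat.blt_eq.mp h1
  have hg : Mdl.gOf a < 512 := by rw [gOf_eq]; omega
  have hh : Mdl.hOf a < 512 := by rw [hOf_eq]; omega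
  have e2 := congrArg decM (Nat.eq_of_beq_eq_true h2)
  have e3 := congrArg decM (Nat.eq_of_beq_eq_true h3)
  rw [decM_mmul hg, g_mid] at e2
  rw [decM_mmul hh, g_mid] at e3
  refine ⟨ha, hg, hh, det_of_inj _ fun v hv => ?_, e2, e3⟩
  have : mv (decM (Mdl.hOf a)) (mv (decM (Mdl.gOf a)) v) = v := by
    rw [← mv_mm, e3, mv_mid]
  rw [hv, mv_v0] at this
  exact this.symm

variable {C : Type u} [Group C]

theorem Frame.section_one (F : Frame C) {s : M → C}
    (hs2 : ∀ g h, det g = true → det h = true → s (mm g h) = s g * s h) : s mid = 1 := by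
  have h := hs2 mid mid (by decide) (by decide)
  rw [mid_mm] at h
  exact left_eq_mul.mp h

theorem Frame.mul_section (F : Frame C) {s : M → C}
    (hs : ∀ g, det g = true → s g ∈ F.P ∧ F.φ (s g) = g)
    (hs2 : ∀ g h, det g = true → det h = true → s (mm g h) = s g * s h)
    (z w : Z) {g h : M} (hg : det g = true) (hh : det h = true) :
    F.q z * s g * (F.q w * s h) = F.q (qm z (qact g w)) * s (mm g h) := by
  rw [F.mul_coord z w (hs g hg).1, (hs g hg).2, hs2 g h hg hh]

/-- A split frame in the centralizer is a frame for the model. -/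
theorem exists_heldUniq_frame {G : Type u} [Group G] {t : G}
    (F : Frame ↥(Subgroup.centralizer ({t} : Set G))) (hFt : (F.t : G) = t) {s : M → ↥(Subgroup.centralizer ({t} : Set G))}
    (hs : ∀ g, det g = true → s g ∈ F.P ∧ F.φ (s g) = g)
    (hs2 : ∀ g h, det g = true → det h = true → s (mm g h) = s g * s h) :
    Nonempty (HeldUniq.Frame t) := by
  refine ⟨{ ev := fun a => ((F.q (decZ a) * s (decM (Mdl.gOf a)) : ↥(Subgroup.centralizer ({t} : Set G))) : G)
            map_mul := ?_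
            inj := ?_
            mem_iff := ?_
            ev_t := ?_ }⟩
  · intro a b ha hb
    obtain ⟨-, hga, hha, hda, e1, e2⟩ := mem_spec ha
    obtain ⟨-, hgb, hhb, hdb, -, -⟩ := mem_spec hb
    rw [← Subgroup.coe_mul, F.mul_section hs hs2 _ _ hda hdb]
    refine congrArg Subtype.val ?_
    have hv : ∀ n, Mdl.vOf n < 8 := fun n => by rw [vOf_eq]; omega
    have hp : ∀ n, Mdl.pOf n < 8 := fun n => by rw [pOf_eq]; omega
    have hc : ∀ n, Mdl.cOf n < 2 := fun n => by rw [cOf_eq]; omega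
    obtain ⟨bgw, egw⟩ := app_dec _ hga _ (hv b)
    obtain ⟨bq, eq⟩ := rapp_dot _ hha _ (hp b)
    obtain ⟨bd, ed⟩ := dot_dec _ (hp a) _ bgw
    obtain ⟨bv, evv⟩ := xor_dec _ (hv a) _ bgw
    obtain ⟨bp, epp⟩ := xor_dec _ (hp a) _ bq
    obtain ⟨bc0, ec0⟩ := xor_bit _ (hc a) _ (hc b)
    obtain ⟨bc, ec⟩ := xor_bit _ bc0 _ bd
    obtain ⟨m1, m2, m3, m4, -⟩ := of_mk (h := Mdl.mmul (Mdl.hOf b) (Mdl.hOf a)) bv bp bc
      (mmul_lt hga (Mdl.gOf b))
    have hd : decV (Mdl.rapp (Mdl.pOf b) (Mdl.hOf a)) =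
        mv (dual (decM (Mdl.gOf a))) (decV (Mdl.pOf b)) := by
      refine dot_ext _ _ fun x => ?_
      have hx : x = mv (decM (Mdl.gOf a)) (mv (decM (Mdl.hOf a)) x) := by
        rw [← mv_mm, e1, mv_mid]
      rw [eq x]
      conv_rhs => rw [hx, dot_dual _ hda]
    simp only [decZ, Mdl.mulN, m1, m2, m3, m4, evv, epp, ec, ec0, ed, egw, hd, decM_mmul hga, qm, qact]
  · intro a b ha hb h
    obtain ⟨hla, hga, hha, hda, e1, e2⟩ := mem_spec ha
    obtain ⟨hlb, hgb, hhb, hdb, f1, f2⟩ := mem_spec hb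
    have h' := Subtype.ext h
    have hy := F.q_mul_inj (hs _ hda).1 (hs _ hdb).1 h'
    simp only [decZ, Prod.mk.injEq] at hy
    have hsplit : ∀ n (x : ↥(Subgroup.centralizer ({t} : Set G))), F.q (decZ n) * x =
        tpow F.t (decide (Mdl.cOf n = 1)) * (F.A (decV (Mdl.vOf n)) * F.B (decV (Mdl.pOf n)) * x) :=
      fun n x => mul_assoc _ _ _
    rw [hsplit, hsplit, hy.1, hy.2] at h'
    have hg : decM (Mdl.gOf a) = decM (Mdl.gOf b) := by
      have key : ∀ e, ∀ g, det g = true → tpow F.t e * s g ∈ F.P ∧ F.φ (tpow F.t e * s g) = g := by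
        intro e g hg
        cases e
        · simpa [tpow] using hs g hg
        · refine ⟨by simpa [tpow] using F.P.mul_mem F.t_mem (hs g hg).1, ?_⟩
          simp only [tpow, if_true]
          rw [F.φ_mul F.t_mem (hs g hg).1, F.φ_t, mid_mm, (hs g hg).2]
      have hsw : ∀ e (w x : ↥(Subgroup.centralizer ({t} : Set G))),
          tpow F.t e * (w * x) = w * (tpow F.t e * x) := fun e w x => by
        rw [← mul_assoc, F.tpow_comm, mul_assoc]
      rw [hsw, hsw] at h'
      have h'' := mul_left_cancel h'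
      rw [← (key (decide (Mdl.cOf a = 1)) _ hda).2, h'', (key _ _ hdb).2]
    rw [hg] at h'
    have hc : decide (Mdl.cOf a = 1) = decide (Mdl.cOf b = 1) := by
      have := mul_right_cancel h'
      revert this
      cases decide (Mdl.cOf a = 1) <;> cases decide (Mdl.cOf b = 1) <;>
        simp [tpow, F.t_ne, F.t_ne.symm]
    have ev := decV_inj _ (by rw [vOf_eq]; omega) _ (by rw [vOf_eq]; omega) hy.1
    have ep := decV_inj _ (by rw [pOf_eq]; omega) _ (by rw [pOf_eq]; omega) hy.2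
    have eg := decM_inj hga hgb hg
    have eh : Mdl.hOf a = Mdl.hOf b := decM_inj hha hhb (by
      calc decM (Mdl.hOf a) = mm (decM (Mdl.hOf a)) (mm (decM (Mdl.gOf a)) (decM (Mdl.hOf b))) := by
            rw [hg, f1, mm_mid]
        _ = _ := by rw [← mm_assoc, e2, mid_mm])
    rw [vOf_eq, vOf_eq] at ev
    rw [pOf_eq, pOf_eq] at ep
    rw [gOf_eq, gOf_eq] at eg
    rw [hOf_eq, hOf_eq] at eh
    simp only [cOf_eq, decide_eq_decide] at hc
    omega
  · intro x
    constructor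
    · intro hx
      obtain ⟨⟨e, u, v⟩, g, hg, hc⟩ := F.exists_coord ⟨x, hx⟩
      obtain ⟨z, hz⟩ : ∃ z, F.q (e, u, v) * F.lift g = F.q z * s g := by
        rcases F.eq_or_eq_of_φ (hs g hg).1 (F.lift_mem g) (by rw [(hs g hg).2, F.φ_lift hg]) with q | q
        · exact ⟨_, congrArg _ q⟩
        · exact ⟨qm (e, u, v) zt, by rw [F.q_mul, F.q_zt, mul_assoc, ← q]⟩
      rw [hz] at hc
      obtain ⟨f, u', v'⟩ := z
      obtain ⟨du, eu⟩ := encV_dec u'
      obtain ⟨dv, ev⟩ := encV_dec v'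
      obtain ⟨eg, dg⟩ := decM_encM g
      have dh := (decM_encM (trM (dual g))).2
      have df : (if f then 1 else 0) < 2 := by cases f <;> simp
      obtain ⟨m1, m2, m3, m4, m5⟩ := of_mk (h := encM (trM (dual g))) du dv df dg
      refine ⟨Mdl.mk (encV u') (encV v') (if f then 1 else 0) (encM g) (encM (trM (dual g))), ?_, ?_⟩
      · obtain ⟨i1, i2⟩ := enc_inverse g (mem_allM g) hg
        simp only [Mdl.mem, Bool.and_eq_true]
        refine ⟨⟨Nat.blt_eq.mpr (by rw [Mdl.mk]; omega), ?_⟩, ?_⟩ <;>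
          simp [m4, m5, i1, i2]
      · have : decZ (Mdl.mk (encV u') (encV v') (if f then 1 else 0) (encM g) (encM (trM (dual g)))) = (f, u', v') := by
          simp only [decZ, m1, m2, m3, eu, ev]
          cases f <;> simp
        simp only [this, m4, eg]
        exact (congrArg Subtype.val hc).symm
    · rintro ⟨a, -, rfl⟩
      exact SetLike.coe_mem _
  · have h1 : decZ Mdl.tN = zt := by decide +kernel
    have h2 : decM (Mdl.gOf Mdl.tN) = mid := by decide +kernel
    simp only [h1, h2, F.section_one hs2, F.q_zt, mul_one]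
    exact hFt
where
  mm_mid (g : M) : mm g mid = g := Prod.ext (mv_unit g).1 (Prod.ext (mv_unit g).2.1 (mv_unit g).2.2)
  mm_assoc {g h k : M} : mm (mm g h) k = mm g (mm h k) := by
    simp only [mm, ← mv_mm]

/-- In a simple group the centralizer with two normal elementary pieces is the model. -/
theorem frame_of_pieces {G : Type u} [Group G] [Finite G] [IsSimpleGroup G] {t : G}
    (ht : orderOf t = 2) {Q E₁ E₂ : Subgroup ↥(Subgroup.centralizer ({t} : Set G))}
    {tC : ↥(Subgroup.centralizer ({t} : Set G))} (htC : (tC : G) = t) (H : Pieces tC Q E₁ E₂) :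
    Nonempty (HeldUniq.Frame t) := by
  obtain ⟨F, hF⟩ := H.exists_frame
  have hFt : (F.t : G) = t := by rw [hF, htC]
  obtain ⟨s, hs, hs2⟩ := F.exists_section (not_twisted ht F hFt)
  exact exists_heldUniq_frame F hFt hs hs2

theorem card_sl32 : Nat.card (Matrix.SpecialLinearGroup (Fin 3) (ZMod 2)) = 168 := by
  rw [Nat.card_eq_fintype_card]; decide +kernel

/-- The pieces under the hypotheses of the statements. -/
theorem pieces_of {G : Type u} [Group G] [Finite G] {t : G} (ht : orderOf t = 2)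
    (Q : Subgroup (Subgroup.centralizer ({t} : Set G))) [Q.Normal] (hQ : Cfsg.IsExtraspecial 2 Q)
    (h2c : Subgroup.centralizer (Q : Set (Subgroup.centralizer ({t} : Set G))) ≤ Q)
    (e : (Subgroup.centralizer ({t} : Set G)) ⧸ Q ≃* Matrix.SpecialLinearGroup (Fin 3) (ZMod 2))
    {E₁ E₂ : Subgroup (Subgroup.centralizer ({t} : Set G))} (hn₁ : E₁.Normal) (hn₂ : E₂.Normal)
    (he₁ : ∀ x ∈ E₁, x * x = 1) (he₂ : ∀ x ∈ E₂, x * x = 1)
    (hc₁ : Nat.card E₁ = 16) (hc₂ : Nat.card E₂ = 16)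
    (tC : ↥(Subgroup.centralizer ({t} : Set G))) (htC : (tC : G) = t)
    (hmeet : E₁ ⊓ E₂ = Subgroup.zpowers tC) (hjoin : E₁ ⊔ E₂ = Q) : Pieces tC Q E₁ E₂ := by
  have ht1 : tC ≠ 1 := fun h => by
    have h' : t = 1 := by rw [← htC, h]; rfl
    rw [h', orderOf_one] at ht
    norm_num at ht
  have htt : tC * tC = 1 := Subtype.ext (by
    rw [Subgroup.coe_mul, htC, ← sq, ← ht, pow_orderOf_eq_one]; rfl)
  have hcomm : ∀ c, tC * c = c * tC := fun c => Subtype.ext (by
    rw [Subgroup.coe_mul, Subgroup.coe_mul, htC]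
    exact (Subgroup.mem_centralizer_singleton_iff.1 c.2).symm)
  have htQ : tC ∈ Q := h2c (Subgroup.mem_centralizer_iff.2 fun x _ => (hcomm x).symm)
  have hm : tC ∈ E₁ ⊓ E₂ := hmeet ▸ Subgroup.mem_zpowers tC
  refine ⟨ht1, htt, hcomm, hn₁, hn₂, he₁, he₂, hc₁, hc₂, hm.1, hm.2, fun x h1 h2 => ?_, hjoin,
    inferInstance, ?_, fun x hx hall => ?_, fun c hc => h2c (Subgroup.mem_centralizer_iff.2 fun y hy => (hc y hy).symm)⟩
  · have : x ∈ Subgroup.zpowers tC := hmeet ▸ ⟨h1, h2⟩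
    obtain ⟨k, rfl⟩ := Subgroup.mem_zpowers_iff.1 this
    rcases Int.even_or_odd' k with ⟨j, rfl | rfl⟩
    · left; rw [zpow_mul, zpow_two, htt, one_zpow]
    · right; rw [zpow_add, zpow_mul, zpow_two, htt, one_zpow, one_mul, zpow_one]
  · rw [Subgroup.index_eq_card, Nat.card_congr e.toEquiv]
    exact card_sl32
  · haveI : Fact (Nat.Prime 2) := ⟨Nat.prime_two⟩
    have hx' : (⟨x, hx⟩ : Q) ∈ Subgroup.center Q :=
      Subgroup.mem_center_iff.2 fun y => Subtype.ext (hall y y.2).symm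
    have ht' : (⟨tC, htQ⟩ : Q) ∈ Subgroup.center Q :=
      Subgroup.mem_center_iff.2 fun y => Subtype.ext (hcomm y).symm
    by_contra hne
    push Not at hne
    have h3 : 3 ≤ Nat.card (Subgroup.center Q) := by
      let f : Fin 3 → Subgroup.center Q := ![1, ⟨_, ht'⟩, ⟨_, hx'⟩]
      have hf : Function.Injective f := by
        intro i j h
        have h' := congrArg (fun z : Subgroup.center Q => ((z : Q) : ↥(Subgroup.centralizer ({t} : Set G)))) h
        fin_cases i <;> fin_cases j <;>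
          first
            | rfl
            | (simp [f] at h'; first | exact absurd h' ht1 | exact absurd h'.symm ht1 |
                exact absurd h' hne.1 | exact absurd h'.symm hne.1 |
                exact absurd h' hne.2 | exact absurd h'.symm hne.2)
      simpa using Nat.card_le_card_of_injective f hf
    rw [hQ.2] at h3
    omega

end CfsgLib.HeldC
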